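import Mathlib.GroupTheory.Complement
import Mathlib.Data.ZMod.Units
import Cfsg.Agent.Lib.Char.Galois
import Cfsg.Agent.Lib.Char.Complete
import Cfsg.Agent.Lib.Char.Orbit
import Cfsg.Agent.Lib.Char.Multiplicity
import Cfsg.Agent.Lib.Char.Degree

/-!
# Quadratic-form bounds for the number of classes of `V ⋊ G`

For `v ∈ V` and a class function `g` of `C = C_G(v)` put
`L χ g = |C|⁻¹ ∑ h, χ (v h) g h`. Then `∑ χ, |L χ g|² = |C|⁻¹ ∑ h, |g h|² |C_V(h)|`; a family of
such functionals which does not annihilate any character bounds the number of classes.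
-/

set_option linter.style.haveILetI false
set_option linter.unusedSectionVars false
set_option linter.unusedDecidableInType false

namespace Cfsg.Agent.KGV

open Cfsg.Agent.Char Cfsg.Agent.CharGalois
open scoped ComplexConjugate Classical

universe u

/-- `z` is determined, under field automorphisms, by their effect on `n`-th roots of unity. -/
def Cyc (n : ℕ) (z : ℂ) : Prop :=
  ∀ σ τ : ℂ ≃+* ℂ, (∀ w : ℂ, w ^ n = 1 → σ w = τ w) → σ z = τ z

theorem Cyc.natCast {n : ℕ} (a : ℕ) : Cyc n (a : ℂ) := fun σ τ _ => by simp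

theorem Cyc.mul {n : ℕ} {a b : ℂ} (ha : Cyc n a) (hb : Cyc n b) : Cyc n (a * b) :=
  fun σ τ h => by rw [map_mul, map_mul, ha σ τ h, hb σ τ h]

theorem Cyc.add {n : ℕ} {a b : ℂ} (ha : Cyc n a) (hb : Cyc n b) : Cyc n (a + b) :=
  fun σ τ h => by rw [map_add, map_add, ha σ τ h, hb σ τ h]

theorem Cyc.sub {n : ℕ} {a b : ℂ} (ha : Cyc n a) (hb : Cyc n b) : Cyc n (a - b) :=
  fun σ τ h => by rw [map_sub, map_sub, ha σ τ h, hb σ τ h]

theorem Cyc.inv {n : ℕ} {a : ℂ} (ha : Cyc n a) : Cyc n a⁻¹ :=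
  fun σ τ h => by rw [map_inv₀, map_inv₀, ha σ τ h]

theorem Cyc.sum {n : ℕ} {ι : Type*} (s : Finset ι) {f : ι → ℂ} (h : ∀ i ∈ s, Cyc n (f i)) :
    Cyc n (∑ i ∈ s, f i) :=
  fun σ τ hh => by
    rw [map_sum, map_sum]
    exact Finset.sum_congr rfl fun i hi => h i hi σ τ hh

theorem Cyc.of_root {n m : ℕ} (hm : m ∣ n) {z : ℂ} (hz : z ^ m = 1) : Cyc n z :=
  fun σ τ h => h z (by obtain ⟨c, rfl⟩ := hm; rw [pow_mul, hz, one_pow])

theorem Cyc.of_char {G : Type*} [Group G] [Finite G] {χ : G → ℂ} (hχ : Cfsg.IsCharacter G χ)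
    {n : ℕ} (hn : Nat.card G ∣ n) (g : G) : Cyc n (χ g) := by
  obtain ⟨d, ρ, rfl⟩ := hχ
  obtain ⟨M, -, hM, hpow, -⟩ := exists_eigenvalues ρ g
  have h1 := hpow 1
  simp only [pow_one, Multiset.map_id'] at h1
  intro σ τ h
  rw [h1, map_multiset_sum, map_multiset_sum]
  exact congrArg Multiset.sum (Multiset.map_congr rfl fun z hz =>
    Cyc.of_root ((orderOf_dvd_natCard g).trans hn) (hM z hz) σ τ h)

/-- A generalized character. -/
def VChar {G : Type*} [Group G] (f : G → ℂ) : Prop :=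
  ∃ a b : G → ℂ, Cfsg.IsCharacter G a ∧ Cfsg.IsCharacter G b ∧ f = a - b

/-- A class function whose coefficients are algebraic integers. -/
def IntCF {G : Type*} [Group G] [Fintype G] (f : G → ℂ) : Prop :=
  Cfsg.IsClassFunction G f ∧ ∀ ρ : Cfsg.IrrCharacter G, IsIntegral ℤ (Cfsg.classInner f ρ)

section vchar

variable {G : Type*} [Group G]

theorem VChar.of_char {f : G → ℂ} (h : Cfsg.IsCharacter G f) : VChar f :=
  ⟨f, 0, h, isCharacter_zero, (sub_zero f).symm⟩

theorem VChar.sub {f g : G → ℂ} (hf : VChar f) (hg : VChar g) : VChar (f - g) := by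
  obtain ⟨a, b, ha, hb, rfl⟩ := hf
  obtain ⟨c, d, hc, hd, rfl⟩ := hg
  exact ⟨a + d, b + c, IsCharacter.add ha hd, IsCharacter.add hb hc, by abel⟩

theorem VChar.mul {f g : G → ℂ} (hf : VChar f) (hg : VChar g) : VChar (f * g) := by
  obtain ⟨a, b, ha, hb, rfl⟩ := hf
  obtain ⟨c, d, hc, hd, rfl⟩ := hg
  exact ⟨a * c + b * d, a * d + b * c,
    IsCharacter.add (IsCharacter.mul ha hc) (IsCharacter.mul hb hd),
    IsCharacter.add (IsCharacter.mul ha hd) (IsCharacter.mul hb hc), by ring⟩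

theorem VChar.comp {H : Type*} [Group H] {f : G → ℂ} (hf : VChar f) (φ : H →* G) :
    VChar (fun h => f (φ h)) := by
  obtain ⟨a, b, ha, hb, rfl⟩ := hf
  exact ⟨_, _, IsCharacter.comp ha φ, IsCharacter.comp hb φ, rfl⟩

theorem VChar.cyc [Finite G] {f : G → ℂ} (hf : VChar f) {n : ℕ} (hn : Nat.card G ∣ n) (g : G) :
    Cyc n (f g) := by
  obtain ⟨a, b, ha, hb, rfl⟩ := hf
  exact (Cyc.of_char ha hn g).sub (Cyc.of_char hb hn g)

theorem VChar.intCF [Fintype G] {f : G → ℂ} (hf : VChar f) : IntCF f := by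
  obtain ⟨a, b, ha, hb, rfl⟩ := hf
  refine ⟨IsClassFunction.sub (IsCharacter.isClassFunction ha) (IsCharacter.isClassFunction hb),
    fun ρ => ?_⟩
  obtain ⟨m, hm⟩ := IsCharacter.exists_classInner_nat ha (IsIrrCharacter.isCharacter ρ.2)
  obtain ⟨m', hm'⟩ := IsCharacter.exists_classInner_nat hb (IsIrrCharacter.isCharacter ρ.2)
  rw [classInner_sub_left, hm, hm']
  exact (isIntegral_algebraMap (R := ℤ) (x := (m : ℤ))).sub
    (isIntegral_algebraMap (R := ℤ) (x := (m' : ℤ)))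

end vchar

/-- The twist of irreducible characters by a field automorphism, as a permutation. -/
noncomputable def twistPerm {G : Type*} [Group G] [Finite G] (σ : ℂ ≃+* ℂ) :
    Cfsg.IrrCharacter G ≃ Cfsg.IrrCharacter G where
  toFun χ := ⟨fun g => σ ((χ : G → ℂ) g), IsIrrCharacter.twist χ.2 σ⟩
  invFun χ := ⟨fun g => σ.symm ((χ : G → ℂ) g), IsIrrCharacter.twist χ.2 σ.symm⟩
  left_inv χ := Subtype.ext (funext fun g => σ.symm_apply_apply _)
  right_inv χ := Subtype.ext (funext fun g => σ.apply_symm_apply _)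

theorem twistPerm_apply {G : Type*} [Group G] [Finite G] (σ : ℂ ≃+* ℂ)
    (χ : Cfsg.IrrCharacter G) (g : G) :
    ((twistPerm σ χ : Cfsg.IrrCharacter G) : G → ℂ) g = σ ((χ : G → ℂ) g) := rfl

/-- The conjugates of a nonzero cyclotomic integer have mean square norm at least one. -/
theorem card_units_le {n : ℕ} [NeZero n] (s : (ZMod n)ˣ → ℂ ≃+* ℂ)
    (hs : ∀ (k : (ZMod n)ˣ) (z : ℂ), z ^ n = 1 → s k z = z ^ (k : ZMod n).val) {x : ℂ}
    (hint : IsIntegral ℤ x) (h0 : x ≠ 0) (hx : Cyc n x) :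
    (Fintype.card (ZMod n)ˣ : ℝ) ≤ ∑ k, ‖s k x‖ ^ 2 := by
  refine card_le_sum_normSq Finset.univ (fun k => s k x)
    (fun k _ => IsIntegral.map (s k).toRingHom.toIntAlgHom hint)
    (fun k _ => (map_ne_zero_iff _ (s k).injective).2 h0) fun τ => ?_
  obtain ⟨j, hj, hτ⟩ := exists_exponent τ.toRingHom (NeZero.ne n)
  rw [map_prod, ← Equiv.prod_comp (Equiv.mulLeft (ZMod.unitOfCoprime j hj)) (fun k => s k x)]
  refine Finset.prod_congr rfl fun k _ => hx ((s k).trans τ) _ fun w hw => ?_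
  rw [RingEquiv.trans_apply, hs k w hw, hs _ w hw]
  refine (hτ _ (by rw [← pow_mul, mul_comm, pow_mul, hw, one_pow])).trans ?_
  rw [← pow_mul, Equiv.coe_mulLeft, Units.val_mul, ZMod.coe_unitOfCoprime, ZMod.val_mul,
    ZMod.val_natCast, Nat.mod_mul_mod, mul_comm]
  exact pow_eq_pow_mod _ hw

section kgv

variable {X : Type u} [Group X] [Fintype X] {V G C : Subgroup X} [V.Normal]

/-- The functional `L`. -/
noncomputable def L (C : Subgroup X) [Fintype C] (v : X) (χ : X → ℂ) (g : C → ℂ) : ℂ :=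
  (Nat.card C : ℂ)⁻¹ * ∑ h : C, χ (v * h) * g h

/-- The number of elements of `V` fixed by `h`. -/
noncomputable def fixCard (V : Subgroup X) (h : X) : ℕ := Nat.card {w : V // (w : X) * h = h * w}

theorem card_conj_shift (hab : ∀ a ∈ V, ∀ b ∈ V, a * b = b * a)
    (hcop : (Nat.card V).Coprime (Nat.card G)) (hGV : Subgroup.IsComplement' V G) {v : X}
    (hv : v ∈ V) (hC : C = G ⊓ Subgroup.centralizer ({v} : Set X)) (h h' : C) :
    Nat.card {x : X // x * (v * h') * x⁻¹ = v * h} =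
      fixCard V (h : X) * Nat.card {c : C // c * h' * c⁻¹ = h} := by
  have hCG : ∀ c : C, (c : X) ∈ G := fun c => (hC.le c.2).1
  have hCv : ∀ c : C, (c : X) * v = v * c := fun c =>
    Subgroup.mem_centralizer_singleton_iff.1 (hC.le c.2).2
  have hcomm : ∀ c : C, Commute v (c : X) := fun c => (hCv c).symm
  have hdis : ∀ x ∈ V, x ∈ G → x = 1 := fun x h1 h2 =>
    Subgroup.disjoint_def.1 hGV.disjoint h1 h2
  obtain ⟨m, hm1, hm0⟩ := Nat.chineseRemainder hcop 1 0
  have hpowv : ∀ a ∈ V, a ^ m = a := fun a ha => by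
    have h1 : a ^ Nat.card V = 1 :=
      congrArg Subtype.val (pow_card_eq_one' (x := (⟨a, ha⟩ : V)))
    rw [pow_eq_pow_mod m h1, hm1, ← pow_eq_pow_mod 1 h1, pow_one]
  have hpowg : ∀ c : C, (c : X) ^ m = 1 := fun c => by
    have h1 : (c : X) ^ Nat.card G = 1 :=
      congrArg Subtype.val (pow_card_eq_one' (x := (⟨(c : X), hCG c⟩ : G)))
    rw [pow_eq_pow_mod m h1, hm0, Nat.zero_mod, pow_zero]
  rw [fixCard, ← Nat.card_prod]
  have hmap : ∀ wc : {w : V // (w : X) * h = h * w} × {c : C // c * h' * c⁻¹ = h},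
      (wc.1.1 : X) * (wc.2.1 : X) * (v * h') * ((wc.1.1 : X) * (wc.2.1 : X))⁻¹ = v * h := by
    rintro ⟨⟨⟨w, hw⟩, hwh⟩, ⟨c, hc⟩⟩
    have e1 : (c : X) * h' * (c : X)⁻¹ = h := by simpa using congrArg Subtype.val hc
    calc w * c * (v * h') * (w * c)⁻¹ = w * (c * v * (c : X)⁻¹) * (c * h' * (c : X)⁻¹) * w⁻¹ := by
          group
      _ = (w * v) * h * w⁻¹ := by rw [e1, hCv c, mul_inv_cancel_right]
      _ = v * (w * h) * w⁻¹ := by rw [hab w hw v hv, mul_assoc v w]
      _ = v * h := by rw [hwh, ← mul_assoc v (h : X) w, mul_inv_cancel_right]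
  refine (Nat.card_congr (Equiv.ofBijective
    (fun wc => (⟨(wc.1.1 : X) * (wc.2.1 : X), hmap wc⟩ : {x : X // x * (v * h') * x⁻¹ = v * h}))
    ⟨?_, ?_⟩)).symm
  · rintro ⟨w, c⟩ ⟨w', c'⟩ e
    have e' : ((w.1 : V) : X) * ((⟨_, hCG c.1⟩ : G) : X) = ((w'.1 : V) : X) * ((⟨_, hCG c'.1⟩ : G) : X) :=
      congrArg Subtype.val e
    have := hGV.1 (a₁ := (w.1, (⟨_, hCG c.1⟩ : G))) (a₂ := (w'.1, (⟨_, hCG c'.1⟩ : G))) e'
    simp only [Prod.mk.injEq, Subtype.mk.injEq] at this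
    exact Prod.ext (Subtype.ext this.1) (Subtype.ext (Subtype.ext this.2))
  · rintro ⟨x, hx⟩
    obtain ⟨⟨⟨w, hw⟩, ⟨k, hk⟩⟩, rfl⟩ := hGV.2 x
    simp only at hx
    have hvx : w * k * v * (w * k)⁻¹ = v := by
      have e := congrArg (fun y => y ^ m) hx
      simp only [conj_pow, (hcomm h').mul_pow, (hcomm h).mul_pow, hpowv v hv, hpowg, mul_one] at e
      exact e
    have hkv : k * v * k⁻¹ = v := by
      have h2 : k * v * k⁻¹ ∈ V := Subgroup.Normal.conj_mem inferInstance v hv k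
      calc k * v * k⁻¹ = w⁻¹ * (w * k * v * (w * k)⁻¹) * w := by group
        _ = w⁻¹ * (v * w) := by rw [hvx, mul_assoc]
        _ = v := by rw [hab v hv w hw, inv_mul_cancel_left]
    have hkC : k ∈ C := hC.ge ⟨hk, Subgroup.mem_centralizer_singleton_iff.2
      (mul_inv_eq_iff_eq_mul.1 hkv)⟩
    have hh : w * k * h' * (w * k)⁻¹ = h := by
      refine mul_left_cancel (a := v) ?_
      calc v * (w * k * h' * (w * k)⁻¹) = w * k * v * (w * k)⁻¹ * (w * k * h' * (w * k)⁻¹) := by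
            rw [hvx]
        _ = w * k * (v * h') * (w * k)⁻¹ := by group
        _ = v * h := hx
    have hk2 : k * h' * k⁻¹ = h := by
      have hg : k * h' * k⁻¹ ∈ G := G.mul_mem (G.mul_mem hk (hCG h')) (G.inv_mem hk)
      have hV' : (k * h' * k⁻¹)⁻¹ * h ∈ V := by
        rw [← hh]
        have : (k * h' * k⁻¹)⁻¹ * (w * k * h' * (w * k)⁻¹) =
            ((k * h' * k⁻¹)⁻¹ * w * (k * h' * k⁻¹)) * w⁻¹ := by group
        rw [this]
        refine V.mul_mem ?_ (V.inv_mem hw)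
        have hc' := (inferInstance : V.Normal).conj_mem w hw (k * h' * k⁻¹)⁻¹
        rwa [inv_inv] at hc'
      exact inv_mul_eq_one.1 (hdis _ hV' (G.mul_mem (G.inv_mem hg) (hCG h)))
    refine ⟨(⟨⟨w, hw⟩, ?_⟩, ⟨⟨k, hkC⟩, Subtype.ext hk2⟩), rfl⟩
    calc w * h = w * (k * h' * k⁻¹) := by rw [hk2]
      _ = w * k * h' * (w * k)⁻¹ * w := by group
      _ = h * w := by rw [hh]

theorem sum_normSq_L (hab : ∀ a ∈ V, ∀ b ∈ V, a * b = b * a)
    (hcop : (Nat.card V).Coprime (Nat.card G)) (hGV : Subgroup.IsComplement' V G) {v : X}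
    (hv : v ∈ V) [Fintype C] (hC : C = G ⊓ Subgroup.centralizer ({v} : Set X)) {g : C → ℂ}
    (hg : Cfsg.IsClassFunction C g) :
    ∑ χ : Cfsg.IrrCharacter X, ‖L C v χ g‖ ^ 2 =
      (Nat.card C : ℝ)⁻¹ * ∑ h : C, ‖g h‖ ^ 2 * (fixCard V (h : X) : ℝ) := by
  apply Complex.ofReal_injective
  push_cast
  simp only [← Complex.mul_conj']
  have hconj : ∀ χ : Cfsg.IrrCharacter X, L C v χ g * conj (L C v χ g) =
      (Nat.card C : ℂ)⁻¹ * (Nat.card C : ℂ)⁻¹ * ∑ h : C, ∑ h' : C,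
        g h * conj (g h') * ((χ : X → ℂ) (v * h) * conj ((χ : X → ℂ) (v * h'))) := fun χ => by
    rw [L, map_mul, map_inv₀, map_natCast, map_sum, mul_mul_mul_comm, Finset.sum_mul_sum]
    refine congrArg _ (Finset.sum_congr rfl fun h _ => Finset.sum_congr rfl fun h' _ => ?_)
    rw [map_mul]
    ring
  simp only [hconj, ← Finset.mul_sum]
  rw [Finset.sum_comm, mul_assoc]
  congr 1
  rw [Finset.mul_sum]
  refine Finset.sum_congr rfl fun h _ => ?_
  rw [Finset.sum_comm]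
  have key : ∀ h' : C, ∑ χ : Cfsg.IrrCharacter X,
      g h * conj (g h') * ((χ : X → ℂ) (v * h) * conj ((χ : X → ℂ) (v * h'))) =
      g h * conj (g h') * ((fixCard V (h : X) : ℂ) *
        ∑ c : C, if c * h' * c⁻¹ = h then 1 else 0) := fun h' => by
    rw [← Finset.mul_sum, column_orth_count, ← Fintype.card_subtype, ← Nat.card_eq_fintype_card,
      card_conj_shift hab hcop hGV hv hC h h', Nat.cast_mul, Finset.sum_boole,
      Nat.card_eq_fintype_card (α := {c : C // c * h' * c⁻¹ = h}), Fintype.card_subtype]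
  simp only [key, Finset.mul_sum, mul_ite, mul_one, mul_zero]
  rw [Finset.sum_comm]
  have hc : ∀ c : C, ∑ h' : C, (Nat.card C : ℂ)⁻¹ *
      (if c * h' * c⁻¹ = h then g h * conj (g h') * (fixCard V (h : X) : ℂ) else 0) =
      (Nat.card C : ℂ)⁻¹ * (g h * conj (g h) * (fixCard V (h : X) : ℂ)) := fun c => by
    rw [Finset.sum_eq_single (c⁻¹ * h * c)]
    · rw [if_pos (by group)]
      have := hg h c⁻¹
      rw [inv_inv] at this
      rw [this]
    · intro b _ hb
      rw [if_neg, mul_zero]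
      rintro rfl
      exact hb (by group)
    · exact fun h0 => absurd (Finset.mem_univ _) h0
  rw [Finset.sum_congr rfl fun c _ => (by simpa only [mul_ite, mul_zero] using hc c),
    Finset.sum_const, nsmul_eq_mul, Finset.card_univ, ← Nat.card_eq_fintype_card,
    mul_inv_cancel_left₀ (Nat.cast_ne_zero.2 Nat.card_pos.ne')]

/-- The values `χ (v h)` pair integrally with class functions with integral coefficients. -/
theorem isIntegral_L [Fintype C] {v : X} (hC : C ≤ Subgroup.centralizer ({v} : Set X)) {g : C → ℂ}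
    (hg : IntCF g) {χ : X → ℂ} (hχ : Cfsg.IsCharacter X χ) : IsIntegral ℤ (L C v χ g) := by
  set R := Subgroup.centralizer ({v} : Set X) with hR
  let vR : R := ⟨v, Subgroup.mem_centralizer_singleton_iff.2 rfl⟩
  have hvc : vR ∈ Subgroup.center R := Subgroup.mem_center_iff.2 fun r =>
    Subtype.ext (Subgroup.mem_centralizer_singleton_iff.1 r.2)
  obtain ⟨m, hm⟩ := IsCharacter.exists_decomp (IsCharacter.restrict hχ R)
  choose c hc using fun μ : Cfsg.IrrCharacter R => IsIrrCharacter.exists_central_scalar μ.2 hvc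
  have hcint : ∀ μ, IsIntegral ℤ (c μ) := fun μ => by
    have hj : ∀ j : ℕ, (μ : R → ℂ) (vR ^ j) = c μ ^ j * (μ : R → ℂ) 1 := fun j => by
      induction j with
      | zero => simp
      | succ j ih => rw [pow_succ', (hc μ).2.1, ih, pow_succ', mul_assoc]
    refine isIntegral_of_pow_eq_one (orderOf_pos vR) ?_
    have := hj (orderOf vR)
    rw [pow_orderOf_eq_one] at this
    exact (mul_right_cancel₀ (IsIrrCharacter.one_ne_zero μ.2) ((one_mul _).trans this)).symm
  have hsplit : ∀ h : C, χ (v * h) =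
      ∑ μ : Cfsg.IrrCharacter R, (m μ : ℂ) * c μ * (μ : R → ℂ) (Subgroup.inclusion hC h) := by
    intro h
    have e := congrFun hm (vR * Subgroup.inclusion hC h)
    simp only [Finset.sum_apply, Pi.smul_apply, smul_eq_mul, (hc _).2.1, ← mul_assoc] at e
    exact e
  have hexp := classFunction_eq_sum hg.1
  have hL : L C v χ g = ∑ μ : Cfsg.IrrCharacter R, ∑ ρ : Cfsg.IrrCharacter C,
      (m μ : ℂ) * c μ * Cfsg.classInner g ρ *
        Cfsg.classInner (fun h => (μ : R → ℂ) (Subgroup.inclusion hC h))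
          (fun h => conj ((ρ : C → ℂ) h)) := by
    have h1 : ∀ h : C, χ (v * h) * g h = ∑ μ : Cfsg.IrrCharacter R, ∑ ρ : Cfsg.IrrCharacter C,
        ((m μ : ℂ) * c μ * Cfsg.classInner g ρ) *
          ((μ : R → ℂ) (Subgroup.inclusion hC h) * (ρ : C → ℂ) h) := fun h => by
      conv_lhs => rw [hsplit h, congrFun hexp h]
      simp only [Finset.sum_apply, Pi.smul_apply, smul_eq_mul, Finset.sum_mul, Finset.mul_sum]
      rw [Finset.sum_comm]
      refine Finset.sum_congr rfl fun μ _ => Finset.sum_congr rfl fun ρ _ => ?_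
      ring
    rw [L]
    simp only [h1]
    rw [Finset.sum_comm, Finset.mul_sum]
    refine Finset.sum_congr rfl fun μ _ => ?_
    rw [Finset.sum_comm, Finset.mul_sum]
    refine Finset.sum_congr rfl fun ρ _ => ?_
    rw [← Finset.mul_sum, mul_left_comm]
    refine congrArg _ ?_
    simp only [Cfsg.classInner, Complex.conj_conj]
  rw [hL]
  refine IsIntegral.sum _ fun μ _ => IsIntegral.sum _ fun ρ _ => ?_
  obtain ⟨k, hk⟩ := IsCharacter.exists_classInner_nat
    (IsCharacter.comp (IsIrrCharacter.isCharacter μ.2) (Subgroup.inclusion hC))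
    (IsCharacter.conj (IsIrrCharacter.isCharacter ρ.2))
  rw [hk]
  exact (((isIntegral_algebraMap (R := ℤ) (x := (m μ : ℤ))).mul (hcint μ)).mul (hg.2 ρ)).mul
    (isIntegral_algebraMap (R := ℤ) (x := (k : ℤ)))

/-- The bound given by a family of functionals. -/
theorem frame_bound (hab : ∀ a ∈ V, ∀ b ∈ V, a * b = b * a)
    (hcop : (Nat.card V).Coprime (Nat.card G)) (hGV : Subgroup.IsComplement' V G) {v : X}
    (hv : v ∈ V) [Fintype C] (hC : C = G ⊓ Subgroup.centralizer ({v} : Set X)) {n : ℕ} (hn0 : n ≠ 0)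
    (hn : Nat.card X ∣ n) {T : Type*} [Fintype T] (g : T → C → ℂ) (hg : ∀ t, IntCF (g t))
    (hcyc : ∀ t h, Cyc n (g t h)) (w : ℝ) (hw : 0 ≤ w)
    (hnz : ∀ χ : Cfsg.IrrCharacter X,
      1 ≤ w * (Finset.univ.filter fun t => L C v χ (g t) ≠ 0).card) (B : ℝ)
    (hub : ∀ σ : ℂ ≃+* ℂ,
      w * ∑ t, (Nat.card C : ℝ)⁻¹ * ∑ h : C, ‖σ (g t h)‖ ^ 2 * (fixCard V (h : X) : ℝ) ≤ B) :
    (Nat.card (ConjClasses X) : ℝ) ≤ B := by
  haveI : NeZero n := ⟨hn0⟩
  choose s hs using fun k : (ZMod n)ˣ => exists_galoisAut hn0 (ZMod.val_coe_unit_coprime k)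
  have hCle : C ≤ Subgroup.centralizer ({v} : Set X) := hC.le.trans inf_le_right
  set x : Cfsg.IrrCharacter X → T → ℂ := fun χ t => L C v χ (g t) with hx
  have hxc : ∀ χ t, Cyc n (x χ t) := fun χ t =>
    (Cyc.natCast _).inv.mul (Cyc.sum _ fun h _ =>
      (Cyc.of_char (IsIrrCharacter.isCharacter χ.2) hn _).mul (hcyc t h))
  have hlow : ∀ χ : Cfsg.IrrCharacter X, (Fintype.card (ZMod n)ˣ : ℝ) ≤
      w * ∑ t, ∑ k, ‖s k (x χ t)‖ ^ 2 := by
    intro χ
    have h1 := mul_le_mul_of_nonneg_left (hnz χ) (Nat.cast_nonneg (Fintype.card (ZMod n)ˣ))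
    rw [mul_one] at h1
    refine h1.trans ?_
    rw [mul_left_comm]
    refine mul_le_mul_of_nonneg_left ?_ hw
    rw [← Finset.sum_filter_add_sum_filter_not Finset.univ (fun t => x χ t ≠ 0)]
    refine le_add_of_le_of_nonneg ?_ (by positivity)
    rw [mul_comm, ← nsmul_eq_mul]
    exact Finset.card_nsmul_le_sum _ _ _ fun t ht => card_units_le s hs
      (isIntegral_L hCle (hg t) (IsIrrCharacter.isCharacter χ.2)) (Finset.mem_filter.1 ht).2 (hxc χ t)
  have hup : ∀ k : (ZMod n)ˣ, w * ∑ t, ∑ χ : Cfsg.IrrCharacter X, ‖s k (x χ t)‖ ^ 2 ≤ B := by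
    intro k
    refine le_trans (le_of_eq ?_) (hub (s k))
    refine congrArg (fun y => w * y) (Finset.sum_congr rfl fun t _ => ?_)
    have hcl : Cfsg.IsClassFunction C (fun h => s k (g t h)) := fun a b =>
      congrArg (s k) ((hg t).1 a b)
    rw [← sum_normSq_L hab hcop hGV hv hC hcl]
    have hperm := Equiv.sum_comp (twistPerm (s k)) (fun χ : Cfsg.IrrCharacter X =>
      ‖L C v (χ : X → ℂ) (fun h : C => s k (g t h))‖ ^ 2)
    rw [← hperm]
    refine Finset.sum_congr rfl fun χ _ => ?_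
    have hL' : s k (x χ t) =
        L C v (fun y => s k ((χ : X → ℂ) y)) (fun h : C => s k (g t h)) := by
      simp only [hx, L, map_mul, map_inv₀, map_natCast, map_sum]
    have htw : ((twistPerm (s k) χ : Cfsg.IrrCharacter X) : X → ℂ) =
        fun y => s k ((χ : X → ℂ) y) := funext fun y => twistPerm_apply _ _ _
    rw [htw, hL']
  have h1 : (Fintype.card (ZMod n)ˣ : ℝ) * Nat.card (Cfsg.IrrCharacter X) ≤
      (Fintype.card (ZMod n)ˣ : ℝ) * B := by
    calc (Fintype.card (ZMod n)ˣ : ℝ) * Nat.card (Cfsg.IrrCharacter X)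
        = ∑ _χ : Cfsg.IrrCharacter X, (Fintype.card (ZMod n)ˣ : ℝ) := by
          simp only [Finset.sum_const, nsmul_eq_mul, Finset.card_univ, Nat.card_eq_fintype_card, mul_comm]
      _ ≤ ∑ χ, w * ∑ t, ∑ k, ‖s k (x χ t)‖ ^ 2 := Finset.sum_le_sum fun χ _ => hlow χ
      _ = ∑ k, w * ∑ t, ∑ χ, ‖s k (x χ t)‖ ^ 2 := by
          simp only [Finset.mul_sum]
          rw [Finset.sum_comm_cycle]
          exact Finset.sum_congr rfl fun _ _ => Finset.sum_comm
      _ ≤ ∑ _k : (ZMod n)ˣ, B := Finset.sum_le_sum fun k _ => hup k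
      _ = (Fintype.card (ZMod n)ˣ : ℝ) * B := by
          rw [Finset.sum_const, nsmul_eq_mul, Finset.card_univ]
  rw [← card_irrCharacter]
  exact le_of_mul_le_mul_left h1 (by exact_mod_cast Fintype.card_pos)

/-- Degrees over a commutative normal subgroup of index prime to `p` are prime to `p`, so the
values at the elements of a normal `p`-subgroup do not vanish. -/
theorem char_ne_zero {p : ℕ} [hp : Fact p.Prime] (hab : ∀ a ∈ V, ∀ b ∈ V, a * b = b * a)
    (hVp : IsPGroup p V) (hidx : ¬ p ∣ V.index) {χ : X → ℂ} (hχ : Cfsg.IsIrrCharacter X χ) {v : X}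
    (hv : v ∈ V) : χ v ≠ 0 := by
  obtain ⟨θ, hθ⟩ := exists_restrict_constituent hχ V
  obtain ⟨e, he, hdvd⟩ := exists_ratio_dvd_index V hχ θ.2 hθ
  have h1 : (θ : V → ℂ) 1 = 1 :=
    degree_one_of_comm (fun a b => Subtype.ext (hab a a.2 b b.2)) θ.2
  rw [h1, mul_one] at he
  refine char_ne_zero_of_pPow (IsIrrCharacter.isCharacter hχ) hp.out ?_ he
    fun hpe => hidx (hpe.trans hdvd)
  obtain ⟨k, hk⟩ := IsPGroup.iff_orderOf.1 hVp ⟨v, hv⟩
  exact ⟨k, by rw [← hk, Subgroup.orderOf_mk]⟩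

end kgv

end Cfsg.Agent.KGV
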