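import Mathlib.LinearAlgebra.Vandermonde
import Mathlib.RingTheory.IntegralDomain
import Mathlib.GroupTheory.SpecificGroups.Cyclic
import Mathlib.GroupTheory.QuotientGroup.Basic
import Cfsg.Agent.Lib.KGV.Frame

/-!
# A quadratic form for abelian operator groups

For an abelian group `C` acting faithfully with coprime order on an abelian group `W` we build
functionals with weight `w`, at least `1 / w` of which are nonzero at every nonzero function,
and with total weighted mass at most `|C| |W|`. Induction along a chief series of the module: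
the form is a tensor product of path forms.
-/

set_option linter.style.haveILetI false
set_option linter.unusedSectionVars false
set_option linter.unusedDecidableInType false

namespace Cfsg.Agent.KGV

open Cfsg.Agent.Char
open scoped ComplexConjugate Classical

universe u

section act

variable {C : Type*} [Group C] {W : Type*} [CommGroup W] (φ : C →* MulAut W) (U : Subgroup W)
  (hU : ∀ h, ∀ u ∈ U, φ h u ∈ U)

include hU in
theorem map_eq (h : C) : U.map (φ h : W →* W) = U := by
  refine le_antisymm ?_ fun u hu => ⟨φ h⁻¹ u, hU _ u hu, ?_⟩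
  · rintro _ ⟨u, hu, rfl⟩
    exact hU h u hu
  · show φ h (φ h⁻¹ u) = u
    rw [← MulAut.mul_apply, ← map_mul, mul_inv_cancel, map_one, MulAut.one_apply]

/-- The action on an invariant subgroup. -/
def subAct : C →* MulAut U where
  toFun h :=
    { toFun := fun u => ⟨φ h u, hU h u u.2⟩
      invFun := fun u => ⟨φ h⁻¹ u, hU h⁻¹ u u.2⟩
      left_inv := fun u => Subtype.ext (by
        show φ h⁻¹ (φ h u) = u
        rw [← MulAut.mul_apply, ← map_mul, inv_mul_cancel, map_one, MulAut.one_apply])
      right_inv := fun u => Subtype.ext (by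
        show φ h (φ h⁻¹ u) = u
        rw [← MulAut.mul_apply, ← map_mul, mul_inv_cancel, map_one, MulAut.one_apply])
      map_mul' := fun a b => Subtype.ext (map_mul (φ h) _ _) }
  map_one' := MulEquiv.ext fun u => Subtype.ext (by
    show φ 1 (u : W) = u
    rw [map_one, MulAut.one_apply])
  map_mul' a b := MulEquiv.ext fun u => Subtype.ext (by
    show φ (a * b) (u : W) = φ a (φ b u)
    rw [map_mul, MulAut.mul_apply])

theorem subAct_apply (h : C) (u : U) : ((subAct φ U hU h u : U) : W) = φ h u := rfl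

/-- The action on the quotient by an invariant subgroup. -/
def quotAct : C →* MulAut (W ⧸ U) where
  toFun h := QuotientGroup.congr U U (φ h) (map_eq φ U hU h)
  map_one' := MulEquiv.ext fun q => QuotientGroup.induction_on q fun x => by
    simp [QuotientGroup.congr_apply]
  map_mul' a b := MulEquiv.ext fun q => QuotientGroup.induction_on q fun x => by
    simp [QuotientGroup.congr_apply, map_mul]

theorem quotAct_apply (h : C) (x : W) :
    quotAct φ U hU h (QuotientGroup.mk x) = QuotientGroup.mk (φ h x) := rfl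

/-- The fixed points of one operator. -/
def fixed (h : C) : Subgroup W where
  carrier := {x | φ h x = x}
  one_mem' := map_one _
  mul_mem' := fun {a b} ha hb => by
    show φ h (a * b) = a * b
    rw [map_mul, ha, hb]
  inv_mem' := fun {a} ha => by
    show φ h a⁻¹ = a⁻¹
    rw [map_inv, ha]

theorem card_fixed_le [Finite W] (h : C) :
    Nat.card {x // φ h x = x} ≤ Nat.card {u : U // φ h u = (u : W)} *
      Nat.card {q : W ⧸ U // quotAct φ U hU h q = q} := by
  let F := fixed φ h
  let f : F →* W ⧸ U := (QuotientGroup.mk' U).comp F.subtype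
  show Nat.card F ≤ _
  rw [← f.ker.index_mul_card, Subgroup.index_ker, mul_comm]
  refine Nat.mul_le_mul ?_ ?_
  · refine Nat.card_le_card_of_injective (fun x => ⟨⟨(x.1 : W), ?_⟩, x.1.2⟩) fun a b e => ?_
    · exact (QuotientGroup.eq_one_iff _).1 x.2
    · exact Subtype.ext (Subtype.ext (congrArg (fun z : {u : U // φ h u = (u : W)} => (z.1 : W)) e))
  · refine Nat.card_le_card_of_injective (fun q => ⟨q.1, ?_⟩) fun a b e =>
      Subtype.ext (congrArg (fun z : {q : W ⧸ U // quotAct φ U hU h q = q} => z.1) e)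
    obtain ⟨_, x, rfl⟩ := q
    show quotAct φ U hU h (QuotientGroup.mk (x : W)) = QuotientGroup.mk (x : W)
    rw [quotAct_apply, x.2]

end act

theorem VChar.linear {C : Type*} [Group C] (f : C →* ℂˣ) : VChar fun h => (f h : ℂ) :=
  VChar.of_char (IsIrrCharacter.isCharacter (isIrrCharacter_linear f))

/-- The functions `θ ^ i` bordered by zeros. -/
noncomputable def bordered {C : Type*} [Group C] (θ : C →* ℂˣ) (e i : ℕ) : C → ℂ :=
  fun h => if 1 ≤ i ∧ i ≤ e then (θ h : ℂ) ^ (i - 1) else 0

theorem vchar_bordered {C : Type*} [Group C] (θ : C →* ℂˣ) (e i : ℕ) :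
    VChar (bordered θ e i) := by
  by_cases hi : 1 ≤ i ∧ i ≤ e
  · have : bordered θ e i = fun h => ((θ ^ (i - 1) : C →* ℂˣ) h : ℂ) := by
      funext h
      simp [bordered, hi]
    rw [this]
    exact VChar.linear _
  · have : bordered θ e i = 0 := by funext h; simp [bordered, hi]
    rw [this]
    exact VChar.of_char isCharacter_zero

theorem sum_normSq_path {e : ℕ} (he : 0 < e) {z : ℂ} (hz : ‖z‖ = 1) :
    ∑ i : Fin (e + 1),
      ‖(if 1 ≤ (i : ℕ) + 1 ∧ (i : ℕ) + 1 ≤ e then z ^ ((i : ℕ) + 1 - 1) else 0) -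
        (if 1 ≤ (i : ℕ) ∧ (i : ℕ) ≤ e then z ^ ((i : ℕ) - 1) else 0)‖ ^ 2 =
      2 * ((e : ℝ) - ((e : ℝ) - 1) * z.re) := by
  obtain ⟨d, rfl⟩ : ∃ d, e = d + 1 := ⟨e - 1, by omega⟩
  have hsq : z.re * z.re + z.im * z.im = 1 := by
    rw [← Complex.normSq_apply, Complex.normSq_eq_norm_sq, hz, one_pow]
  rw [Fin.sum_univ_eq_sum_range (fun i : ℕ =>
    ‖(if 1 ≤ i + 1 ∧ i + 1 ≤ d + 1 then z ^ (i + 1 - 1) else 0) -
      (if 1 ≤ i ∧ i ≤ d + 1 then z ^ (i - 1) else 0)‖ ^ 2), Finset.sum_range_succ,
    Finset.sum_range_succ']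
  have hmid : ∀ i ∈ Finset.range d,
      ‖(if 1 ≤ i + 1 + 1 ∧ i + 1 + 1 ≤ d + 1 then z ^ (i + 1 + 1 - 1) else 0) -
        (if 1 ≤ i + 1 ∧ i + 1 ≤ d + 1 then z ^ (i + 1 - 1) else 0)‖ ^ 2 = 2 - 2 * z.re := by
    intro i hi
    rw [Finset.mem_range] at hi
    rw [if_pos ⟨by omega, by omega⟩, if_pos ⟨by omega, by omega⟩, Nat.add_sub_cancel,
      Nat.add_sub_cancel, pow_succ z, ← mul_sub_one, norm_mul, norm_pow, hz, one_pow, one_mul,
      ← Complex.normSq_eq_norm_sq, Complex.normSq_apply]
    simp only [Complex.sub_re, Complex.sub_im, Complex.one_re, Complex.one_im, sub_zero]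
    linarith
  rw [Finset.sum_congr rfl hmid, Finset.sum_const, Finset.card_range, nsmul_eq_mul]
  simp [norm_pow, hz]
  ring

/-- Functions on a finite group against the powers of a character injective on a subgroup. -/
theorem eq_zero_of_moments {C : Type*} [CommGroup C] [Finite C] (K : Subgroup C) [Fintype K]
    (θ : C →* ℂˣ) (hθ : ∀ k ∈ K, θ k = 1 → k = 1) (x : C) (f : K → ℂ)
    (h : ∀ i < Fintype.card K, ∑ k : K, f k * (θ (x * k) : ℂ) ^ i = 0) : f = 0 := by
  let e := (Fintype.equivFin K).symm
  have key : (fun j => f (e j)) = 0 := by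
    refine Matrix.eq_zero_of_forall_pow_sum_mul_pow_eq_zero
      (f := fun j => (θ (e j : C) : ℂ)) ?_ fun i => ?_
    · intro a b hab
      refine e.injective (Subtype.ext ?_)
      have h1 : θ (e a : C) = θ (e b : C) := Units.ext hab
      refine inv_mul_eq_one.1 (hθ _ (K.mul_mem (K.inv_mem (e a).2) (e b).2) ?_)
      rw [map_mul, map_inv, h1, inv_mul_cancel]
    · have h2 := h i i.2
      rw [← e.sum_comp] at h2
      simp only [map_mul, Units.val_mul, mul_pow, mul_left_comm _ ((θ x : ℂ) ^ (i : ℕ))] at h2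
      rw [← Finset.mul_sum] at h2
      exact (mul_eq_zero.1 h2).resolve_left (pow_ne_zero _ (Units.ne_zero _))
  funext k
  have := congrFun key (e.symm k)
  simpa using this

theorem sum_cosets {C : Type*} [Group C] [Fintype C] (K : Subgroup C) [Fintype K] {M : Type*}
    [AddCommMonoid M] (F : C → M) : ∑ h, F h = ∑ q : C ⧸ K, ∑ k : K, F (q.out * k) := by
  classical
  rw [← Fintype.sum_prod_type']
  have hmk : ∀ (q : C ⧸ K) (k : K), (QuotientGroup.mk (q.out * (k : C)) : C ⧸ K) = q := fun q k => by
    rw [QuotientGroup.mk_mul_of_mem _ k.2, QuotientGroup.out_eq']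
  refine (Fintype.sum_bijective (fun qk : (C ⧸ K) × K => qk.1.out * (qk.2 : C))
    ⟨fun a b e => ?_, fun h => ?_⟩ _ _ fun _ => rfl).symm
  · have h1 : a.1 = b.1 := by
      rw [← hmk a.1 a.2, ← hmk b.1 b.2]
      exact congrArg QuotientGroup.mk e
    refine Prod.ext h1 (Subtype.ext ?_)
    simp only [h1] at e
    exact mul_left_cancel e
  · exact ⟨(QuotientGroup.mk h, ⟨_, QuotientGroup.eq.1 (QuotientGroup.out_eq' (QuotientGroup.mk h))⟩),
      mul_inv_cancel_left _ _⟩

/-- The inductive statement. -/
theorem exists_frame : ∀ (N : ℕ) {C : Type u} [CommGroup C] [Fintype C] {W : Type u} [CommGroup W]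
    [Finite W] (φ : C →* MulAut W), Nat.card W = N → Function.Injective φ →
    (Nat.card C).Coprime (Nat.card W) →
    ∃ (T : Type) (_ : Fintype T) (g : T → C → ℂ) (w : ℝ), 0 ≤ w ∧ (∀ t, VChar (g t)) ∧
      (∀ f : C → ℂ, f ≠ 0 →
        1 ≤ w * (Finset.univ.filter fun t => ∑ h, f h * g t h ≠ 0).card) ∧
      ∀ σ : ℂ ≃+* ℂ, w * ∑ t, ∑ h, ‖σ (g t h)‖ ^ 2 * (Nat.card {x // φ h x = x} : ℝ) ≤
        (Nat.card C : ℝ) * Nat.card W := by
  intro N
  induction N using Nat.strong_induction_on with
  | _ N IH =>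
  intro C _ _ W _ _ φ hN hinj hcop
  by_cases hW : ∀ x : W, x = 1
  · haveI : Subsingleton W := ⟨fun a b => by rw [hW a, hW b]⟩
    haveI : Subsingleton C := ⟨fun a b => hinj (MulEquiv.ext fun x => Subsingleton.elim _ _)⟩
    refine ⟨Unit, inferInstance, fun _ _ => 1, 1, zero_le_one,
      fun _ => VChar.of_char isCharacter_one, fun f hf => ?_, fun σ => ?_⟩
    · have h1 : ∑ h, f h * 1 ≠ 0 := by
        rw [Fintype.sum_subsingleton _ (1 : C), mul_one]
        exact fun h0 => hf (funext fun h => by rw [Subsingleton.elim h 1]; exact h0)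
      rw [Finset.filter_true_of_mem fun _ _ => h1]
      simp
    · have h1 : Nat.card C = 1 := Nat.card_unique
      have h2 : Nat.card W = 1 := Nat.card_unique
      simp [h1, h2, Fintype.sum_subsingleton _ (1 : C), Nat.card_unique]
      try exact Fintype.card_pos
  -- a minimal invariant subgroup
  push Not at hW
  obtain ⟨x₀, hx₀⟩ := hW
  have hex : ∃ n, ∃ U : Subgroup W, U ≠ ⊥ ∧ (∀ h, ∀ u ∈ U, φ h u ∈ U) ∧ Nat.card U = n :=
    ⟨_, ⊤, fun e => hx₀ (Subgroup.mem_bot.1 (e ▸ Subgroup.mem_top x₀)),
      fun _ _ _ => Subgroup.mem_top _, rfl⟩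
  obtain ⟨U, hU0, hU, hUn⟩ := Nat.find_spec hex
  have hmin : ∀ U' : Subgroup W, U' ≤ U → (∀ h, ∀ u ∈ U', φ h u ∈ U') → U' = ⊥ ∨ U' = U := by
    intro U' hle hinv
    by_cases h0 : U' = ⊥
    · exact Or.inl h0
    · exact Or.inr (Subgroup.eq_of_le_of_card_ge hle
        (hUn.le.trans (Nat.find_min' hex ⟨U', h0, hinv, rfl⟩)))
  set φU := subAct φ U hU with hφU
  set ψ₀ := quotAct φ U hU with hψ₀
  set K : Subgroup C := ψ₀.ker with hK
  set L : Subgroup C := φU.ker with hL
  have hcomm : ∀ a b : C, ∀ x : W, φ a (φ b x) = φ b (φ a x) := fun a b x => by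
    rw [← MulAut.mul_apply, ← map_mul, mul_comm, map_mul, MulAut.mul_apply]
  -- an element outside `L` moves every non-identity element of `U`
  have hfpf : ∀ h : C, h ∉ L → ∀ u ∈ U, φ h u = u → u = 1 := by
    intro h hh u hu hfix
    rcases hmin (U ⊓ fixed φ h) inf_le_left (fun a y hy =>
      ⟨hU a y hy.1, (hcomm h a y).trans (congrArg (φ a) hy.2)⟩) with h0 | h0
    · exact Subgroup.mem_bot.1 (h0 ▸ (⟨hu, hfix⟩ : u ∈ U ⊓ fixed φ h))
    · refine absurd (MonoidHom.mem_ker.2 (MulEquiv.ext fun y => Subtype.ext ?_)) hh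
      exact (h0.ge y.2).2
  have hKL : ∀ k ∈ K, k ∈ L → k = 1 := by
    intro k hk hk'
    refine hinj (MulEquiv.ext fun x => ?_)
    rw [map_one, MulAut.one_apply]
    have hfixU : ∀ u ∈ U, φ k u = u := fun u hu =>
      congrArg Subtype.val (DFunLike.congr_fun (show φU k = 1 from MonoidHom.mem_ker.1 hk') (⟨u, hu⟩ : U))
    have hq : QuotientGroup.mk (s := U) x = QuotientGroup.mk (φ k x) :=
      ((DFunLike.congr_fun (MonoidHom.mem_ker.1 hk) (QuotientGroup.mk x)).symm).trans
        (quotAct_apply φ U hU k x)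
    set u := x⁻¹ * φ k x with hu
    have huU : u ∈ U := QuotientGroup.eq.1 hq
    have hx : φ k x = x * u := (mul_inv_cancel_left _ _).symm
    have hpow : ∀ j : ℕ, φ (k ^ j) x = x * u ^ j := fun j => by
      induction j with
      | zero => simp
      | succ j ih => rw [pow_succ', map_mul, MulAut.mul_apply, ih, map_mul, map_pow, hfixU u huU,
          hx, mul_assoc, ← pow_succ']
    have h1 : u ^ orderOf k = 1 := by
      have := hpow (orderOf k)
      rw [pow_orderOf_eq_one, map_one, MulAut.one_apply] at this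
      exact left_eq_mul.1 this
    have h2 : orderOf u = 1 := by
      refine Nat.eq_one_of_dvd_coprimes hcop ((orderOf_dvd_of_pow_eq_one h1).trans
        (orderOf_dvd_natCard k)) (orderOf_dvd_natCard u)
    rw [hx, orderOf_eq_one_iff.1 h2, mul_one]
  -- a character of `C` with kernel `L`
  obtain ⟨θ, hθ⟩ : ∃ θ : C →* ℂˣ, ∀ h, θ h = 1 ↔ h ∈ L := by
    let ι : C →* AddMonoid.End (Additive U) :=
      { toFun := fun h => AddMonoidHom.mk' (fun y => Additive.ofMul (φU h (Additive.toMul y)))
          fun a b => congrArg Additive.ofMul (map_mul (φU h) _ _)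
        map_one' := AddMonoidHom.ext fun y => by
          show Additive.ofMul (φU 1 (Additive.toMul y)) = y
          rw [map_one, MulAut.one_apply, ofMul_toMul]
        map_mul' := fun a b => AddMonoidHom.ext fun y => by
          show Additive.ofMul (φU (a * b) (Additive.toMul y)) =
            Additive.ofMul (φU a (φU b (Additive.toMul y)))
          rw [map_mul, MulAut.mul_apply] }
    set R := Subring.closure (Set.range ι) with hR
    haveI : IsMulCommutative R := Subring.isMulCommutative_closure (by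
      rintro _ ⟨a, rfl⟩ _ ⟨b, rfl⟩
      rw [← map_mul, ← map_mul, mul_comm])
    have hRcomm : ∀ r ∈ R, ∀ h, r * ι h = ι h * r := fun r hr h =>
      setLike_mul_comm hr (Subring.subset_closure (Set.mem_range_self h))
    have hdom : ∀ r ∈ R, r ≠ 0 → ∀ y, r y = 0 → y = 0 := by
      intro r hr hr0 y hy
      let Ker : Subgroup W := Subgroup.map U.subtype
        { carrier := {a : U | r (Additive.ofMul a) = 0}
          one_mem' := by simp
          mul_mem' := fun {a b} ha hb => by simp_all
          inv_mem' := fun {a} ha => by simp_all }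
      rcases hmin Ker (Subgroup.map_subtype_le _) (fun h u hu => by
        obtain ⟨a, ha, rfl⟩ := hu
        refine ⟨φU h a, ?_, rfl⟩
        show r (ι h (Additive.ofMul a)) = 0
        have := DFunLike.congr_fun (hRcomm r hr h) (Additive.ofMul a)
        exact this.trans (by
          show ι h (r (Additive.ofMul a)) = 0
          rw [show r (Additive.ofMul a) = 0 from ha, map_zero])) with h0 | h0
      · have : ((Additive.toMul y : U) : W) ∈ Ker := ⟨Additive.toMul y, by simpa using hy, rfl⟩
        rw [h0, Subgroup.mem_bot] at this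
        exact congrArg Additive.ofMul (Subtype.ext this : Additive.toMul y = 1)
      · refine absurd (AddMonoidHom.ext fun z => ?_) hr0
        obtain ⟨a, ha, he⟩ := h0.ge (Additive.toMul z).2
        obtain rfl : a = Additive.toMul z := Subtype.ext he
        exact ha
    haveI : Nontrivial R := by
      refine ⟨1, 0, fun h10 => hU0 ?_⟩
      rw [eq_bot_iff]
      intro u hu
      have := DFunLike.congr_fun (congrArg Subtype.val h10) (Additive.ofMul (⟨u, hu⟩ : U))
      exact Subgroup.mem_bot.2 (congrArg (fun z => ((Additive.toMul z : U) : W)) this)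
    haveI : NoZeroDivisors R := ⟨fun {a b} hab => by
      by_cases ha : a = 0
      · exact Or.inl ha
      · refine Or.inr (Subtype.ext (AddMonoidHom.ext fun y => ?_))
        exact hdom a a.2 (fun e => ha (Subtype.ext e)) _
          (DFunLike.congr_fun (congrArg Subtype.val hab) y)⟩
    letI : CommRing R :=
      { (inferInstance : Ring R) with mul_comm := fun a b => Subtype.ext (setLike_mul_comm a.2 b.2) }
    haveI : IsDomain R := NoZeroDivisors.to_isDomain R
    let ιR : C →* R := ι.codRestrict R fun h => Subring.subset_closure (Set.mem_range_self h)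
    have hker : ∀ h, ιR h = 1 ↔ h ∈ L := fun h => by
      rw [hL, MonoidHom.mem_ker, Subtype.ext_iff]
      constructor
      · intro e
        exact MulEquiv.ext fun y => congrArg Additive.toMul
          (DFunLike.congr_fun (show ι h = 1 from e) (Additive.ofMul y))
      · intro e
        show ι h = 1
        exact AddMonoidHom.ext fun y => congrArg Additive.ofMul
          (DFunLike.congr_fun e (Additive.toMul y))
    let ιQ : C ⧸ L →* R := QuotientGroup.lift L ιR fun h hh => (hker h).2 hh
    have hιQ : Function.Injective ιQ := by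
      refine (injective_iff_map_eq_one _).2 fun q => QuotientGroup.induction_on q fun h hh => ?_
      exact (QuotientGroup.eq_one_iff h).2 ((hker h).1 hh)
    haveI : IsCyclic (C ⧸ L) := isCyclic_of_injective_ringHom (R := R) ιQ hιQ
    set m := Nat.card (C ⧸ L) with hm
    haveI : NeZero m := ⟨Nat.card_pos.ne'⟩
    have hcard : Nat.card (rootsOfUnity m ℂ) = m := by
      exact Complex.card_rootsOfUnity m
    let eq := mulEquivOfCyclicCardEq (G := C ⧸ L) (G' := rootsOfUnity m ℂ) hcard.symm
    refine ⟨((rootsOfUnity m ℂ).subtype.comp eq.toMonoidHom).comp (QuotientGroup.mk' L), fun h => ?_⟩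
    rw [← QuotientGroup.eq_one_iff h]
    exact ⟨fun e => eq.injective ((Subtype.ext e).trans eq.map_one.symm),
      fun e => by simp [e]⟩
  have hθK : ∀ k ∈ K, θ k = 1 → k = 1 := fun k hk h1 => hKL k hk ((hθ k).1 h1)
  -- induction
  let ψ : C ⧸ K →* MulAut (W ⧸ U) := QuotientGroup.kerLift ψ₀
  have hψ : ∀ (h : C) (q : W ⧸ U), ψ (QuotientGroup.mk h) q = ψ₀ h q := fun h q => rfl
  have hUW : Nat.card U * Nat.card (W ⧸ U) = Nat.card W := by
    rw [mul_comm]
    exact (Subgroup.card_eq_card_quotient_mul_card_subgroup U).symm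
  have hU1 : 1 < Nat.card U := (Subgroup.one_lt_card_iff_ne_bot U).2 hU0
  have hlt : Nat.card (W ⧸ U) < N := by
    rw [← hN, ← hUW]
    exact lt_mul_of_one_lt_left Nat.card_pos hU1
  obtain ⟨T, _, g, w, hw, hvc, hnz, hub⟩ := IH _ hlt ψ rfl (QuotientGroup.kerLift_injective ψ₀)
    ((hcop.coprime_dvd_left (Subgroup.card_quotient_dvd_card K)).coprime_dvd_right
      (Subgroup.card_quotient_dvd_card U))
  haveI : Fintype K := Fintype.ofFinite K
  set e := Fintype.card K with he
  have he0 : 0 < e := Fintype.card_pos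
  refine ⟨Fin (e + 1) × T, inferInstance, fun it h =>
    (bordered θ e ((it.1 : ℕ) + 1) h - bordered θ e it.1 h) * g it.2 (QuotientGroup.mk h), w / 2,
    by linarith, fun it => ?_, fun f hf => ?_, fun σ => ?_⟩
  · exact ((vchar_bordered θ e _).sub (vchar_bordered θ e _)).mul
      ((hvc it.2).comp (QuotientGroup.mk' K))
  · -- non-vanishing
    have hsplit : ∀ F : C → ℂ, ∑ h, F h = ∑ q : C ⧸ K, ∑ k : K, F (q.out * k) :=
      fun F => by convert sum_cosets K F
    have hmk : ∀ (q : C ⧸ K) (k : K), (QuotientGroup.mk (q.out * (k : C)) : C ⧸ K) = q := fun q k => by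
      rw [QuotientGroup.mk_mul, QuotientGroup.out_eq', (QuotientGroup.eq_one_iff _).2 k.2, mul_one]
    let Ψ : ℕ → C ⧸ K → ℂ := fun i q => ∑ k : K, f (q.out * k) * bordered θ e i (q.out * k)
    have hval : ∀ (i : Fin (e + 1)) (t : T), (∑ h, f h *
        ((bordered θ e ((i : ℕ) + 1) h - bordered θ e i h) * g t (QuotientGroup.mk h))) =
        ∑ q, (Ψ ((i : ℕ) + 1) - Ψ i) q * g t q := fun i t => by
      rw [hsplit]
      refine Finset.sum_congr rfl fun q _ => ?_
      simp only [Pi.sub_apply, Ψ, hmk, ← mul_assoc, mul_sub, sub_mul, Finset.sum_mul,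
        Finset.sum_sub_distrib]
    have hΨ0 : Ψ 0 = 0 := funext fun q => by simp [Ψ, bordered]
    have hΨtop : ∀ i, e < i → Ψ i = 0 := fun i hi => funext fun q => by
      simp [Ψ, bordered, Nat.not_le.2 hi]
    obtain ⟨j, hj⟩ : ∃ j, Ψ j ≠ 0 := by
      by_contra hall
      push Not at hall
      apply hf
      funext h
      set q : C ⧸ K := QuotientGroup.mk h
      have := eq_zero_of_moments K θ hθK q.out (fun k => f (q.out * k)) fun i hi => by
        have h1 := congrFun (hall (i + 1)) q
        simpa [Ψ, bordered, Nat.succ_le_of_lt (he ▸ hi)] using h1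
      have hk : q.out⁻¹ * h ∈ K := QuotientGroup.eq.1 (QuotientGroup.out_eq' q)
      have h2 := congrFun this ⟨_, hk⟩
      simpa using h2
    have hje : j ≤ e := le_of_not_gt fun h => hj (hΨtop j h)
    have hexj : ∃ i, Ψ i ≠ 0 := ⟨j, hj⟩
    set a := Nat.find hexj with ha
    set b := Nat.findGreatest (fun i => Ψ i ≠ 0) e with hb
    have ha1 : Ψ a ≠ 0 := Nat.find_spec hexj
    have hb1 : Ψ b ≠ 0 := Nat.findGreatest_spec (P := fun i => Ψ i ≠ 0) hje hj
    have hab : a ≤ b := (Nat.find_min' hexj hj).trans (Nat.le_findGreatest hje hj)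
    have hbe : b ≤ e := Nat.findGreatest_le e
    have ha0 : a ≠ 0 := fun h => ha1 (h ▸ hΨ0)
    let i₁ : Fin (e + 1) := ⟨a - 1, by omega⟩
    let i₂ : Fin (e + 1) := ⟨b, by omega⟩
    have hD1 : Ψ ((i₁ : ℕ) + 1) - Ψ i₁ ≠ 0 := by
      show Ψ (a - 1 + 1) - Ψ (a - 1) ≠ 0
      rw [show a - 1 + 1 = a by omega,
        show Ψ (a - 1) = 0 from not_not.1 (Nat.find_min hexj (show a - 1 < a by omega)), sub_zero]
      exact ha1
    have hD2 : Ψ ((i₂ : ℕ) + 1) - Ψ i₂ ≠ 0 := by
      show Ψ (b + 1) - Ψ b ≠ 0
      have : Ψ (b + 1) = 0 := by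
        by_cases h : b + 1 ≤ e
        · exact not_not.1 (Nat.findGreatest_is_greatest (show b < b + 1 by omega) h)
        · exact hΨtop _ (by omega)
      rw [this, zero_sub, neg_ne_zero]
      exact hb1
    have hne : i₁ ≠ i₂ := fun h => by
      have : a - 1 = b := congrArg Fin.val h
      omega
    have h1 := hnz _ hD1
    have h2 := hnz _ hD2
    have hsub : (({i₁} : Finset (Fin (e + 1))) ×ˢ (Finset.univ.filter fun t =>
          ∑ q, (Ψ ((i₁ : ℕ) + 1) - Ψ i₁) q * g t q ≠ 0)).card +
        (({i₂} : Finset (Fin (e + 1))) ×ˢ (Finset.univ.filter fun t =>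
          ∑ q, (Ψ ((i₂ : ℕ) + 1) - Ψ i₂) q * g t q ≠ 0)).card ≤
        (Finset.univ.filter fun it : Fin (e + 1) × T => ∑ h, f h *
          ((bordered θ e ((it.1 : ℕ) + 1) h - bordered θ e it.1 h) *
            g it.2 (QuotientGroup.mk h)) ≠ 0).card := by
      rw [← Finset.card_union_of_disjoint]
      · refine Finset.card_le_card fun it hit => ?_
        simp only [Finset.mem_union, Finset.mem_product, Finset.mem_singleton, Finset.mem_filter,
          Finset.mem_univ, true_and] at hit ⊢
        rw [hval]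
        rcases hit with ⟨h, h'⟩ | ⟨h, h'⟩ <;> rw [h] <;> exact h'
      · rw [Finset.disjoint_left]
        intro it hit hit'
        simp only [Finset.mem_product, Finset.mem_singleton] at hit hit'
        exact hne (hit.1.symm.trans hit'.1)
    rw [Finset.card_product, Finset.card_product, Finset.card_singleton, Finset.card_singleton,
      one_mul, one_mul] at hsub
    have h3 : ((_ : ℕ) : ℝ) ≤ _ := Nat.cast_le.2 hsub
    rw [Nat.cast_add] at h3
    nlinarith [mul_le_mul_of_nonneg_left h3 hw]
  · -- total mass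
    let z : C → ℂ := fun h => σ (θ h : ℂ)
    have hzn : ∀ h, ‖z h‖ = 1 := fun h => by
      refine norm_eq_one_of_pow (orderOf_pos h).ne' ?_
      show σ (θ h : ℂ) ^ orderOf h = 1
      rw [← map_pow, ← Units.val_pow_eq_pow_val, ← map_pow, pow_orderOf_eq_one, map_one,
        Units.val_one, map_one]
    let Φ : C ⧸ K → ℝ := fun q => ∑ t, ‖σ (g t q)‖ ^ 2 * (Nat.card {y // ψ q y = y} : ℝ)
    let P : C → ℝ := fun h => (e : ℝ) - ((e : ℝ) - 1) * (z h).re
    have hP : ∀ h, 0 ≤ P h := fun h => by
      have h1 := (abs_le.1 (Complex.abs_re_le_norm (z h))).2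
      rw [hzn] at h1
      have h2 : (1 : ℝ) ≤ e := by exact_mod_cast he0
      show 0 ≤ (e : ℝ) - ((e : ℝ) - 1) * (z h).re
      nlinarith
    have hpoint : ∀ h : C, ∑ it : Fin (e + 1) × T,
        ‖σ ((bordered θ e ((it.1 : ℕ) + 1) h - bordered θ e it.1 h) *
          g it.2 (QuotientGroup.mk h))‖ ^ 2 * (Nat.card {x // φ h x = x} : ℝ) ≤
        2 * (P h * (Nat.card {u : U // φ h u = (u : W)} : ℝ)) * Φ (QuotientGroup.mk h) := by
      intro h
      rw [Fintype.sum_prod_type]
      simp only [map_mul, norm_mul, mul_pow, map_sub, bordered, apply_ite σ, map_pow, map_zero,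
        mul_assoc, ← Finset.mul_sum]
      rw [← Finset.sum_mul, sum_normSq_path he0 (hzn h), mul_assoc]
      refine mul_le_mul_of_nonneg_left ?_ two_pos.le
      refine mul_le_mul_of_nonneg_left ?_ (hP h)
      rw [Finset.mul_sum]
      refine Finset.sum_le_sum fun t _ => ?_
      rw [mul_left_comm]
      refine mul_le_mul_of_nonneg_left ?_ (sq_nonneg _)
      exact_mod_cast card_fixed_le φ U hU h
    have hcoset : ∀ q : C ⧸ K, ∑ k : K,
        P (q.out * k) * (Nat.card {u : U // φ (q.out * k) u = (u : W)} : ℝ) ≤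
        (e : ℝ) * Nat.card U := by
      intro q
      set x := q.out
      have hfix : ∀ k : K, (Nat.card {u : U // φ (x * k) u = (u : W)} : ℝ) =
          1 + if x * (k : C) ∈ L then (Nat.card U : ℝ) - 1 else 0 := fun k => by
        by_cases hk : x * (k : C) ∈ L
        · rw [if_pos hk, add_sub_cancel]
          have hu' : ∀ u : U, φ (x * k) u = (u : W) := fun u => congrArg Subtype.val
            (DFunLike.congr_fun (show φU (x * k) = 1 from MonoidHom.mem_ker.1 hk) u)
          rw [Nat.card_congr (Equiv.subtypeUnivEquiv hu')]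
        · rw [if_neg hk, add_zero]
          haveI : Subsingleton {u : U // φ (x * k) u = (u : W)} :=
            ⟨fun a b => Subtype.ext (Subtype.ext ((hfpf _ hk a.1 a.1.2 a.2).trans
              (hfpf _ hk b.1 b.1.2 b.2).symm))⟩
          haveI : Nonempty {u : U // φ (x * k) u = (u : W)} := ⟨⟨1, by simp⟩⟩
          rw [Nat.card_unique, Nat.cast_one]
      have hone : ∀ k : K, x * (k : C) ∈ L → P (x * k) = 1 := fun k hk => by
        show (e : ℝ) - ((e : ℝ) - 1) * (σ (θ (x * k) : ℂ)).re = 1
        rw [(hθ _).2 hk]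
        simp
      have hsum : ∑ k : K, P (x * k) = (e : ℝ) * e := by
        simp only [P, Finset.sum_sub_distrib, Finset.sum_const, Finset.card_univ, nsmul_eq_mul,
          ← Finset.mul_sum, ← he]
        rcases Nat.lt_or_ge 1 e with h1 | h1
        · have hz0 : ∑ k : K, z (x * k) = 0 := by
            obtain ⟨k₀, hk₀⟩ : ∃ k₀ : K, k₀ ≠ 1 :=
              @exists_ne K (Fintype.one_lt_card_iff_nontrivial.1 h1) 1
            have hne1 : z (k₀ : C) ≠ 1 := fun h => hk₀ (Subtype.ext (hθK _ k₀.2 (Units.ext (by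
              rw [Units.val_one]
              exact σ.injective (h.trans σ.map_one.symm)))))
            have hshift : z (k₀ : C) * ∑ k : K, z (x * k) = ∑ k : K, z (x * k) := by
              rw [Finset.mul_sum, ← Equiv.sum_comp (Equiv.mulLeft k₀) fun k : K => z (x * k)]
              refine Finset.sum_congr rfl fun k _ => ?_
              show σ (θ (k₀ : C) : ℂ) * σ (θ (x * k) : ℂ) = σ (θ (x * ((k₀ * k : K) : C)) : ℂ)
              rw [← map_mul, ← Units.val_mul, ← map_mul, Subgroup.coe_mul, mul_left_comm]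
            by_contra hne
            exact hne1 (mul_eq_right₀ hne |>.1 hshift)
          rw [← Complex.re_sum, hz0, Complex.zero_re, mul_zero, sub_zero]
        · have : e = 1 := by omega
          simp [this]
      have hsub : (Finset.univ.filter fun k : K => x * (k : C) ∈ L).card ≤ 1 := by
        refine Finset.card_le_one.2 fun a ha b hb => ?_
        simp only [Finset.mem_filter, Finset.mem_univ, true_and] at ha hb
        refine inv_mul_eq_one.1 (Subtype.ext (hKL _ (a⁻¹ * b : K).2 ?_))
        have := L.mul_mem (L.inv_mem ha) hb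
        rwa [mul_inv_rev, mul_assoc, inv_mul_cancel_left] at this
      have horbit : e = 1 ∨ e + 1 ≤ Nat.card U := by
        by_cases h1 : e = 1
        · exact Or.inl h1
        right
        obtain ⟨u₀, hu₀, hu₀1⟩ := Subgroup.ne_bot_iff_exists_ne_one.1 hU0 |> fun ⟨y, hy⟩ =>
          (⟨y.1, y.2, fun h => hy (Subtype.ext h)⟩ : ∃ u, u ∈ U ∧ u ≠ 1)
        have hinjK : Function.Injective fun k : K => (⟨φ k u₀, hU _ _ hu₀⟩ : U) := by
          intro a b hab
          have hab' : φ a u₀ = φ b u₀ := congrArg Subtype.val hab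
          by_contra hne
          have hnL : (a : C)⁻¹ * b ∉ L := fun h =>
            hne (inv_mul_eq_one.1 (Subtype.ext (hKL _ (a⁻¹ * b : K).2 h)))
          refine hu₀1 (hfpf _ hnL u₀ hu₀ ?_)
          rw [map_mul, MulAut.mul_apply, ← hab', ← MulAut.mul_apply, ← map_mul, inv_mul_cancel,
            map_one, MulAut.one_apply]
        haveI : Fintype U := Fintype.ofFinite U
        rw [Nat.card_eq_fintype_card]
        refine Fintype.card_lt_of_injective_of_notMem _ hinjK (b := (1 : U)) ?_
        rintro ⟨k, hk⟩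
        refine hu₀1 ((φ (k : C)).injective ?_)
        rw [map_one]
        exact congrArg Subtype.val hk
      calc ∑ k : K, P (x * k) * (Nat.card {u : U // φ (x * k) u = (u : W)} : ℝ)
          = ∑ k : K, P (x * k) + ∑ k : K, if x * (k : C) ∈ L then (Nat.card U : ℝ) - 1 else 0 := by
            rw [← Finset.sum_add_distrib]
            refine Finset.sum_congr rfl fun k _ => ?_
            rw [hfix k, mul_add, mul_one]
            split_ifs with hk
            · rw [hone k hk, one_mul]
            · rw [mul_zero]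
        _ ≤ (e : ℝ) * e + ((Nat.card U : ℝ) - 1) := by
            rw [hsum, ← Finset.sum_filter, Finset.sum_const, nsmul_eq_mul]
            have h1 : (1 : ℝ) ≤ Nat.card U := by exact_mod_cast hU1.le
            have h2 : ((Finset.univ.filter fun k : K => x * (k : C) ∈ L).card : ℝ) ≤ 1 := by
              exact_mod_cast hsub
            nlinarith
        _ ≤ (e : ℝ) * Nat.card U := by
            have h1 : (1 : ℝ) ≤ Nat.card U := by exact_mod_cast hU1.le
            have h3 : (1 : ℝ) ≤ e := by exact_mod_cast he0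
            rcases horbit with h | h
            · rw [h]
              simp
            · have h4 : (e : ℝ) + 1 ≤ Nat.card U := by exact_mod_cast h
              nlinarith
    have hΦ : 0 ≤ w := hw
    have hsplit : ∀ F : C → ℝ, ∑ h, F h = ∑ q : C ⧸ K, ∑ k : K, F (q.out * k) :=
      fun F => by convert sum_cosets K F
    have hCK : (Nat.card (C ⧸ K) : ℝ) * e = Nat.card C := by
      rw [Subgroup.card_eq_card_quotient_mul_card_subgroup K, Nat.cast_mul,
        Nat.card_eq_fintype_card (α := K)]
    rw [Finset.sum_comm]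
    calc w / 2 * ∑ h, ∑ it : Fin (e + 1) × T,
          ‖σ ((bordered θ e ((it.1 : ℕ) + 1) h - bordered θ e it.1 h) *
            g it.2 (QuotientGroup.mk h))‖ ^ 2 * (Nat.card {x // φ h x = x} : ℝ)
        ≤ w / 2 * ∑ h, 2 * (P h * (Nat.card {u : U // φ h u = (u : W)} : ℝ)) *
            Φ (QuotientGroup.mk h) :=
          mul_le_mul_of_nonneg_left (Finset.sum_le_sum fun h _ => hpoint h) (by linarith)
      _ = w * ∑ q : C ⧸ K, (∑ k : K, P (q.out * k) *
            (Nat.card {u : U // φ (q.out * k) u = (u : W)} : ℝ)) * Φ q := by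
          rw [hsplit, Finset.mul_sum, Finset.mul_sum]
          refine Finset.sum_congr rfl fun q _ => ?_
          rw [Finset.sum_mul, Finset.mul_sum, Finset.mul_sum]
          refine Finset.sum_congr rfl fun k _ => ?_
          rw [QuotientGroup.mk_mul, QuotientGroup.out_eq', (QuotientGroup.eq_one_iff _).2 k.2,
            mul_one]
          ring
      _ ≤ w * ∑ q : C ⧸ K, ((e : ℝ) * Nat.card U) * Φ q :=
          mul_le_mul_of_nonneg_left (Finset.sum_le_sum fun q _ => mul_le_mul_of_nonneg_right
            (hcoset q) (Finset.sum_nonneg fun t _ => by positivity)) hw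
      _ = (e : ℝ) * Nat.card U * (w * ∑ t, ∑ q, ‖σ (g t q)‖ ^ 2 *
            (Nat.card {y // ψ q y = y} : ℝ)) := by
          rw [← Finset.mul_sum, Finset.sum_comm]
          ring
      _ ≤ (e : ℝ) * Nat.card U * ((Nat.card (C ⧸ K) : ℝ) * Nat.card (W ⧸ U)) :=
          mul_le_mul_of_nonneg_left (hub σ) (by positivity)
      _ = (Nat.card C : ℝ) * Nat.card W := by
          rw [← hCK, ← hUW, Nat.cast_mul]
          ring

end Cfsg.Agent.KGV
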