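import Mathlib.LinearAlgebra.Matrix.Charpoly.Eigs
import Mathlib.LinearAlgebra.Matrix.ToLinearEquiv
import Mathlib.Algebra.CharP.Lemmas
import Cfsg.Prelude.Def_Blocks
import Cfsg.Agent.Lib.KGV.Frame

/-!
# Class functions with integral coefficients, congruences modulo a prime over `p`
-/

set_option linter.style.haveILetI false
set_option linter.unusedSectionVars false
set_option linter.unusedDecidableInType false

namespace Cfsg.Agent.KGV

open Cfsg.Agent.Char
open scoped ComplexConjugate Classical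

universe u

theorem isIntegral_natCast (m : ℕ) : IsIntegral ℤ (m : ℂ) := by
  simpa using isIntegral_algebraMap (R := ℤ) (A := ℂ) (x := (m : ℤ))

theorem isIntegral_intCast (m : ℤ) : IsIntegral ℤ (m : ℂ) := by
  simpa using isIntegral_algebraMap (R := ℤ) (A := ℂ) (x := m)

theorem isIntegral_conj {z : ℂ} (h : IsIntegral ℤ z) : IsIntegral ℤ (conj z) :=
  IsIntegral.map (starRingEnd ℂ).toIntAlgHom h

section intcf

variable {G : Type*} [Group G] [Fintype G]

theorem IntCF.zero : IntCF (0 : G → ℂ) :=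
  ⟨fun _ _ => rfl, fun ρ => by rw [classInner_zero_left]; exact isIntegral_zero⟩

theorem IntCF.add {f g : G → ℂ} (hf : IntCF f) (hg : IntCF g) : IntCF (f + g) :=
  ⟨fun a b => by simp only [Pi.add_apply, hf.1 a b, hg.1 a b], fun ρ => by
    rw [classInner_add_left]; exact (hf.2 ρ).add (hg.2 ρ)⟩

theorem IntCF.smul {f : G → ℂ} {c : ℂ} (hc : IsIntegral ℤ c) (hf : IntCF f) : IntCF (c • f) :=
  ⟨fun a b => by simp only [Pi.smul_apply, hf.1 a b], fun ρ => by
    rw [classInner_smul_left]; exact hc.mul (hf.2 ρ)⟩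

theorem IntCF.sum {ι : Type*} (s : Finset ι) {f : ι → G → ℂ} (h : ∀ i ∈ s, IntCF (f i)) :
    IntCF (∑ i ∈ s, f i) := by
  induction s using Finset.induction_on with
  | empty => simpa using IntCF.zero
  | insert a s ha ih =>
    rw [Finset.sum_insert ha]
    exact (h a (Finset.mem_insert_self a s)).add (ih fun i hi => h i (Finset.mem_insert_of_mem hi))

theorem IntCF.isIntegral_apply {f : G → ℂ} (hf : IntCF f) (g : G) : IsIntegral ℤ (f g) := by
  rw [congrFun (classFunction_eq_sum hf.1) g, Finset.sum_apply]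
  exact IsIntegral.sum _ fun ρ _ =>
    (hf.2 ρ).mul (IsCharacter.isIntegral (IsIrrCharacter.isCharacter ρ.2) g)

theorem IntCF.mul {f g : G → ℂ} (hf : IntCF f) (hg : IntCF g) : IntCF (f * g) := by
  rw [classFunction_eq_sum hf.1, Finset.sum_mul]
  refine IntCF.sum _ fun μ _ => ?_
  rw [smul_mul_assoc]
  refine (IntCF.smul (hf.2 μ) ?_)
  rw [classFunction_eq_sum hg.1, Finset.mul_sum]
  refine IntCF.sum _ fun ν _ => ?_
  rw [mul_smul_comm]
  exact IntCF.smul (hg.2 ν) (VChar.of_char (IsCharacter.mul (IsIrrCharacter.isCharacter μ.2)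
    (IsIrrCharacter.isCharacter ν.2))).intCF

theorem IntCF.comp {H : Type*} [Group H] [Fintype H] {f : G → ℂ} (hf : IntCF f) (φ : H →* G) :
    IntCF (fun h => f (φ h)) := by
  have e : (fun h => f (φ h)) = ∑ μ : Cfsg.IrrCharacter G,
      Cfsg.classInner f μ • fun h => (μ : G → ℂ) (φ h) := by
    funext h
    rw [congrFun (classFunction_eq_sum hf.1) (φ h)]
    simp
  rw [e]
  exact IntCF.sum _ fun μ _ =>
    IntCF.smul (hf.2 μ) (VChar.of_char (IsCharacter.comp (IsIrrCharacter.isCharacter μ.2) φ)).intCF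

theorem IntCF.shift {f : G → ℂ} (hf : IntCF f) {z : G} (hz : z ∈ Subgroup.center G) :
    IntCF (fun h => f (z * h)) := by
  choose c hc using fun μ : Cfsg.IrrCharacter G => IsIrrCharacter.exists_central_scalar μ.2 hz
  have e : (fun h => f (z * h)) = ∑ μ : Cfsg.IrrCharacter G,
      (Cfsg.classInner f μ * c μ) • (μ : G → ℂ) := by
    funext h
    rw [congrFun (classFunction_eq_sum hf.1) (z * h)]
    simp [(hc _).2.1, mul_assoc]
  rw [e]
  refine IntCF.sum _ fun μ _ => IntCF.smul ((hf.2 μ).mul ?_) (VChar.of_char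
    (IsIrrCharacter.isCharacter μ.2)).intCF
  have hj : ∀ j : ℕ, (μ : G → ℂ) (z ^ j) = c μ ^ j * (μ : G → ℂ) 1 := fun j => by
    induction j with
    | zero => simp
    | succ j ih => rw [pow_succ', (hc μ).2.1, ih, pow_succ', mul_assoc]
  refine isIntegral_of_pow_eq_one (orderOf_pos z) ?_
  have := hj (orderOf z)
  rw [pow_orderOf_eq_one] at this
  exact (mul_right_cancel₀ (IsIrrCharacter.one_ne_zero μ.2) ((one_mul _).trans this)).symm

/-- A class function with integral values some multiple of which, by a number prime to `|G|`, has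
integral coefficients has integral coefficients. -/
theorem IntCF.of_coprime {f : G → ℂ} (hf : Cfsg.IsClassFunction G f)
    (hint : ∀ g, IsIntegral ℤ (f g)) {D : ℕ} (hD : D.Coprime (Nat.card G))
    (h : IntCF ((D : ℂ) • f)) : IntCF f := by
  refine ⟨hf, fun ρ => ?_⟩
  have h1 : IsIntegral ℤ ((Nat.card G : ℂ) * Cfsg.classInner f ρ) := by
    rw [Cfsg.classInner, mul_inv_cancel_left₀ (Nat.cast_ne_zero.2 Nat.card_pos.ne')]
    exact IsIntegral.sum _ fun g _ => (hint g).mul (isIntegral_conj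
      (IsCharacter.isIntegral (IsIrrCharacter.isCharacter ρ.2) g))
  have h2 : IsIntegral ℤ ((D : ℂ) * Cfsg.classInner f ρ) := by
    rw [← classInner_smul_left]
    exact h.2 ρ
  have hb : (1 : ℂ) = (D : ℂ) * (Nat.gcdA D (Nat.card G) : ℂ) +
      (Nat.card G : ℂ) * (Nat.gcdB D (Nat.card G) : ℂ) := by
    have := Nat.gcd_eq_gcd_ab D (Nat.card G)
    rw [hD.gcd_eq_one] at this
    exact_mod_cast this
  rw [← one_mul (Cfsg.classInner f ρ), hb, add_mul, mul_right_comm, mul_right_comm (Nat.card G : ℂ)]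
  exact (h2.mul (isIntegral_intCast _)).add (h1.mul (isIntegral_intCast _))

end intcf

/-- A matrix commuting with an idempotent, with algebraic integer entries, has integral trace on
its image. -/
theorem isIntegral_trace_mul_idempotent {ι : Type*} [Fintype ι] [DecidableEq ι]
    (A P : Matrix ι ι ℂ) (hA : ∀ i j, IsIntegral ℤ (A i j)) (hcomm : A * P = P * A)
    (hP : P * P = P) : IsIntegral ℤ (A * P).trace := by
  have hroot : ∀ μ : ℂ, A.charpoly.IsRoot μ → IsIntegral ℤ μ := by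
    intro μ hμ
    let A' : Matrix ι ι (integralClosure ℤ ℂ) := fun i j => ⟨A i j, hA i j⟩
    have hAA : A = A'.map (integralClosure ℤ ℂ).val.toRingHom := rfl
    rw [hAA, Matrix.charpoly_map] at hμ
    refine isIntegral_trans (A := integralClosure ℤ ℂ) μ
      ⟨A'.charpoly, Matrix.charpoly_monic _, ?_⟩
    rw [Polynomial.eval₂_eq_eval_map]
    exact hμ
  rw [Matrix.trace_eq_sum_roots_charpoly]
  refine isIntegral_multiset_sum _ fun μ hμ => ?_
  by_cases h0 : μ = 0
  · rw [h0]; exact isIntegral_zero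
  rw [Polynomial.mem_roots (Matrix.charpoly_monic _).ne_zero] at hμ
  have hdet : (Matrix.scalar ι μ - A * P).det = 0 := by rw [← Matrix.eval_charpoly]; exact hμ
  have hsc : ∀ y : ι → ℂ, Matrix.mulVec (Matrix.scalar ι μ) y = μ • y := fun y =>
    funext fun i => by simp [Matrix.scalar_apply, Matrix.mulVec_diagonal]
  obtain ⟨x, hx0, hx⟩ := Matrix.exists_mulVec_eq_zero_iff.2 hdet
  rw [Matrix.sub_mulVec, sub_eq_zero, hsc] at hx
  have hPx : Matrix.mulVec P x = x := by
    have h1 : Matrix.mulVec P (Matrix.mulVec (A * P) x) = Matrix.mulVec (A * P) x := by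
      rw [Matrix.mulVec_mulVec, ← mul_assoc, ← hcomm, mul_assoc, hP]
    rw [← hx, Matrix.mulVec_smul] at h1
    exact smul_right_injective _ h0 h1
  refine hroot μ ?_
  rw [Polynomial.IsRoot, Matrix.eval_charpoly]
  refine Matrix.exists_mulVec_eq_zero_iff.1 ⟨x, hx0, ?_⟩
  rw [Matrix.sub_mulVec, sub_eq_zero, hsc, hx,
    ← Matrix.mulVec_mulVec, hPx]

section modp

variable {p : ℕ} {M : Ideal Cfsg.AlgInt}

theorem sub_one_mem_of_pow_eq_one (hM : Cfsg.IsPModular p M) {a : Cfsg.AlgInt} {k : ℕ}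
    (h : a ^ p ^ k = 1) : a - 1 ∈ M := by
  haveI := hM.2.1
  haveI : Fact p.Prime := ⟨hM.1⟩
  have hp0 : (p : Cfsg.AlgInt ⧸ M) = 0 := by
    rw [← map_natCast (Ideal.Quotient.mk M), Ideal.Quotient.eq_zero_iff_mem]
    exact hM.2.2
  haveI : CharP (Cfsg.AlgInt ⧸ M) p := (CharP.charP_iff_prime_eq_zero hM.1).2 hp0
  rw [← Ideal.Quotient.eq_zero_iff_mem]
  refine eq_zero_of_pow_eq_zero (n := p ^ k) ?_
  rw [map_sub, map_one, sub_pow_char_pow, one_pow, ← map_pow, h, map_one, sub_self]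

theorem natCast_notMem (hM : Cfsg.IsPModular p M) {d : ℕ} (hd : ¬ p ∣ d) :
    (d : Cfsg.AlgInt) ∉ M := by
  intro h
  refine hM.2.1.ne_top ((Ideal.eq_top_iff_one M).2 ?_)
  have hb := Nat.gcd_eq_gcd_ab d p
  rw [((hM.1.coprime_iff_not_dvd.2 hd).symm).gcd_eq_one] at hb
  have hb' := congrArg (fun z : ℤ => (z : Cfsg.AlgInt)) hb
  push_cast at hb'
  rw [hb']
  exact M.add_mem (M.mul_mem_right _ h) (M.mul_mem_right _ hM.2.2)

theorem intCast_mem (hM : Cfsg.IsPModular p M) {d : ℤ} (hd : (p : ℤ) ∣ d) :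
    (d : Cfsg.AlgInt) ∈ M := by
  obtain ⟨c, rfl⟩ := hd
  push_cast
  exact M.mul_mem_right _ hM.2.2

theorem char_sub_degree_mem {G : Type*} [Group G] [Finite G] (hM : Cfsg.IsPModular p M)
    {χ : G → ℂ} (hχ : Cfsg.IsCharacter G χ) {g : G} {k : ℕ} (hg : g ^ p ^ k = 1) {d : ℕ}
    (hd : χ 1 = d) : ∃ a ∈ M, (a : ℂ) = χ g - d := by
  obtain ⟨n, ρ, rfl⟩ := hχ
  obtain ⟨Ms, -, hMs, hpow, -⟩ := exists_eigenvalues ρ g
  have h1 := hpow 1
  have h0 := hpow 0
  simp only [pow_one, Multiset.map_id'] at h1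
  simp only [pow_zero, Multiset.map_const', Multiset.sum_replicate, nsmul_eq_mul, mul_one, hd,
    Nat.cast_inj] at h0
  have hz : ∀ z ∈ Ms, ∃ a ∈ M, (a : ℂ) = z - 1 := by
    intro z hz
    have hord : orderOf g ∣ p ^ k := orderOf_dvd_of_pow_eq_one hg
    have hzp : z ^ p ^ k = 1 := by
      obtain ⟨c, hc⟩ := hord
      rw [hc, pow_mul, hMs z hz, one_pow]
    have hint : IsIntegral ℤ z := isIntegral_of_pow_eq_one (pow_pos hM.1.pos k) hzp
    exact ⟨⟨z, hint⟩ - 1, sub_one_mem_of_pow_eq_one hM (Subtype.ext (by simpa using hzp)), by simp⟩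
  choose! a ha hae using hz
  refine ⟨(Ms.map a).sum, multiset_sum_mem _ fun x hx => ?_, ?_⟩
  · obtain ⟨z, hz, rfl⟩ := Multiset.mem_map.1 hx
    exact ha z hz
  · rw [h1, h0, ← Subalgebra.val_apply, map_multiset_sum, Multiset.map_map]
    rw [show Ms.map ((Cfsg.AlgInt.val : Cfsg.AlgInt → ℂ) ∘ a) = Ms.map (fun z => z - 1) from
      Multiset.map_congr rfl fun z hz => hae z hz, Multiset.sum_map_sub]
    simp

end modp

end Cfsg.Agent.KGV
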