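import Mathlib.LinearAlgebra.BilinearForm.Properties
import Mathlib.RepresentationTheory.Basic
import Mathlib.NumberTheory.LegendreSymbol.AddCharacter
import Mathlib.Analysis.SpecialFunctions.Complex.CircleAddChar
import Mathlib.Analysis.Normed.Group.AddCircle
import Cfsg.Agent.Lib.KGV.IntTools

/-!
# Gauss sums of a group preserving a bilinear form

For `h` preserving `β` put `q_h u = β (h u) u - β u u` and `S h = ∑ u, ψ (q_h u)`. This is a class
function with integral coefficients, being the trace of `h` times an integral matrix commuting with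
the group; if `q_h` vanishes on the radical `R` of its polar form, then `|S h|² = |U| |R|`.
-/

set_option linter.style.haveILetI false
set_option linter.unusedSectionVars false
set_option linter.unusedDecidableInType false

namespace Cfsg.Agent.KGV

open Cfsg.Agent.Char
open scoped ComplexConjugate Classical

variable {p : ℕ} [hp : Fact p.Prime] {H : Type*} [Group H] [Fintype H] {U : Type*} [AddCommGroup U]
  [Module (ZMod p) U] [Fintype U] (ρ : Representation (ZMod p) H U)
  (β : LinearMap.BilinForm (ZMod p) U)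

/-- The number of fixed vectors. -/
noncomputable def fixN (h : H) : ℕ := Nat.card {u : U // ρ h u = u}

/-- The fixed vectors. -/
def fixS (h : H) : Submodule (ZMod p) U := LinearMap.ker (ρ h - 1)

theorem mem_fixS {h : H} {u : U} : u ∈ fixS ρ h ↔ ρ h u = u := by
  simp [fixS, sub_eq_zero]

theorem card_fixS (h : H) : Nat.card (fixS ρ h) = fixN ρ h :=
  Nat.card_congr (Equiv.subtypeEquivRight fun _ => mem_fixS ρ)

theorem rho_inv_apply (h : H) (u : U) : ρ h⁻¹ (ρ h u) = u := by
  rw [← Module.End.mul_apply, ← map_mul, inv_mul_cancel, map_one, Module.End.one_apply]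

theorem rho_apply_inv (h : H) (u : U) : ρ h (ρ h⁻¹ u) = u := by
  rw [← Module.End.mul_apply, ← map_mul, mul_inv_cancel, map_one, Module.End.one_apply]

/-- The quadratic function of `h`. -/
def qf (h : H) (u : U) : ZMod p := β (ρ h u) u - β u u

/-- The polar form of `qf`. -/
def polar (h : H) : LinearMap.BilinForm (ZMod p) U :=
  β.comp (ρ h) LinearMap.id + LinearMap.flip (β.comp (ρ h) LinearMap.id) - β - LinearMap.flip β

theorem polar_apply (h : H) (u w : U) :
    polar ρ β h u w = β (ρ h u) w + β (ρ h w) u - β u w - β w u := by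
  simp [polar]

/-- The Gauss sum. -/
noncomputable def gauss (ψ : AddChar (ZMod p) ℂ) (h : H) : ℂ := ∑ u : U, ψ (qf ρ β h u)

variable (hβ : ∀ h u w, β (ρ h u) (ρ h w) = β u w)

theorem qf_add (h : H) (u w : U) :
    qf ρ β h (u + w) = qf ρ β h u + qf ρ β h w + polar ρ β h u w := by
  simp only [qf, polar_apply, map_add, LinearMap.add_apply]
  ring

include hβ in
theorem qf_conj (a h : H) (u : U) : qf ρ β (a * h * a⁻¹) (ρ a u) = qf ρ β h u := by
  simp only [qf, map_mul, Module.End.mul_apply, rho_inv_apply, hβ]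

include hβ in
theorem gauss_isClassFunction (ψ : AddChar (ZMod p) ℂ) :
    Cfsg.IsClassFunction H (gauss ρ β ψ) := by
  intro h a
  refine (Fintype.sum_bijective (ρ a) ⟨fun x y e => ?_, fun y => ⟨ρ a⁻¹ y, rho_apply_inv ρ a y⟩⟩
    _ _ fun u => ?_).symm
  · simpa [rho_inv_apply] using congrArg (ρ a⁻¹) e
  · rw [qf_conj ρ β hβ]

theorem addChar_pow_eq_one (ψ : AddChar (ZMod p) ℂ) (a : ZMod p) : ψ a ^ p = 1 := by
  rw [← AddChar.map_nsmul_eq_pow, nsmul_eq_mul, ZMod.natCast_self, zero_mul,
    AddChar.map_zero_eq_one]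

theorem isIntegral_addChar (ψ : AddChar (ZMod p) ℂ) (a : ZMod p) : IsIntegral ℤ (ψ a) :=
  isIntegral_of_pow_eq_one hp.out.pos (addChar_pow_eq_one ψ a)

include hβ in
theorem intCF_gauss (ψ : AddChar (ZMod p) ℂ) : IntCF (gauss ρ β ψ) := by
  refine ⟨gauss_isClassFunction ρ β hβ ψ, fun χ => ?_⟩
  obtain ⟨d, σ, hσ⟩ := IsCharacter.conj (IsIrrCharacter.isCharacter χ.2)
  let S : H →* Matrix (Fin d) (Fin d) ℂ :=
    (LinearMap.toMatrixAlgEquiv (Pi.basisFun ℂ (Fin d)) : Module.End ℂ (Fin d → ℂ) ≃ₐ[ℂ]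
      Matrix (Fin d) (Fin d) ℂ).toMonoidHom.comp σ
  let Am : Matrix U U ℂ := Matrix.of fun u w => ψ (β w u - β u u)
  let A : Matrix (U × Fin d) (U × Fin d) ℂ := Matrix.kroneckerMap (· * ·) Am 1
  let P : H → Matrix U U ℂ := fun h => Matrix.of fun u w => if u = ρ h w then 1 else 0
  let Mh : H → Matrix (U × Fin d) (U × Fin d) ℂ := fun h => Matrix.kroneckerMap (· * ·) (P h) (S h)
  have hPmul : ∀ a b, P a * P b = P (a * b) := fun a b => by
    ext u w
    simp [P, Matrix.mul_apply, map_mul, Module.End.mul_apply]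
  have hMmul : ∀ a b, Mh a * Mh b = Mh (a * b) := fun a b => by
    simp only [Mh]
    rw [← Matrix.mul_kronecker_mul, hPmul, map_mul]
  have hAP : ∀ h, Am * P h = P h * Am := fun h => by
    ext u w
    simp only [Matrix.mul_apply, P, Matrix.of_apply, mul_ite, mul_one, mul_zero, ite_mul, one_mul, zero_mul]
    rw [Finset.sum_eq_single (ρ h w), Finset.sum_eq_single (ρ h⁻¹ u)]
    · rw [if_pos rfl, if_pos (rho_apply_inv ρ h u).symm]
      simp only [Am, Matrix.of_apply]
      conv_rhs => rw [← hβ h, ← hβ h (ρ h⁻¹ u) (ρ h⁻¹ u), rho_apply_inv]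
    · intro b _ hb
      rw [if_neg]
      rintro rfl
      exact hb (rho_inv_apply ρ h b).symm
    · exact fun h0 => absurd (Finset.mem_univ _) h0
    · intro b _ hb
      rw [if_neg hb]
    · exact fun h0 => absurd (Finset.mem_univ _) h0
  have hAM : ∀ h, A * Mh h = Mh h * A := fun h => by
    simp only [A, Mh]
    rw [← Matrix.mul_kronecker_mul, ← Matrix.mul_kronecker_mul, hAP, mul_one, one_mul]
  let Pr : Matrix (U × Fin d) (U × Fin d) ℂ := (Nat.card H : ℂ)⁻¹ • ∑ h, Mh h
  have hidem : Pr * Pr = Pr := by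
    have h1 : ∀ a, Mh a * ∑ h, Mh h = ∑ h, Mh h := fun a => by
      rw [Finset.mul_sum]
      simp only [hMmul]
      exact Equiv.sum_comp (Equiv.mulLeft a) Mh
    simp only [Pr, smul_mul_assoc, mul_smul_comm, Finset.sum_mul]
    rw [Finset.sum_congr rfl fun a _ => h1 a, Finset.sum_const, Finset.card_univ,
      ← Nat.card_eq_fintype_card, ← Nat.cast_smul_eq_nsmul ℂ, smul_smul (Nat.card H : ℂ)⁻¹,
      smul_smul, mul_assoc, inv_mul_cancel₀ (Nat.cast_ne_zero.2 Nat.card_pos.ne' : (Nat.card H : ℂ) ≠ 0),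
      mul_one]
  have hcomm : A * Pr = Pr * A := by
    simp only [Pr, mul_smul_comm, smul_mul_assoc, Finset.mul_sum, Finset.sum_mul, hAM]
  have hA : ∀ i j, IsIntegral ℤ (A i j) := by
    rintro ⟨u, i⟩ ⟨w, j⟩
    simp only [A, Matrix.kroneckerMap_apply, Am, Matrix.of_apply, Matrix.one_apply]
    split_ifs
    · exact (isIntegral_addChar ψ _).mul isIntegral_one
    · rw [mul_zero]; exact isIntegral_zero
  have htr : (A * Pr).trace = Cfsg.classInner (gauss ρ β ψ) χ := by
    simp only [Pr, Matrix.mul_smul, Matrix.trace_smul, Finset.mul_sum, Matrix.trace_sum,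
      smul_eq_mul, Cfsg.classInner]
    refine Finset.sum_congr rfl fun h _ => congrArg _ ?_
    simp only [A, Mh]
    rw [← Matrix.mul_kronecker_mul, Matrix.trace_kronecker, one_mul]
    refine congrArg₂ (· * ·) ?_ ?_
    · simp only [Matrix.trace, Matrix.diag_apply, Matrix.mul_apply, P, Matrix.of_apply, mul_ite, mul_one, mul_zero,
        Finset.sum_ite_eq', Finset.mem_univ, if_true, Am, gauss, qf]
    · exact (LinearMap.trace_eq_matrix_trace ℂ (Pi.basisFun ℂ (Fin d)) (σ h)).symm.trans
        (congrFun hσ h)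
  rw [← htr]
  exact isIntegral_trace_mul_idempotent A Pr hA hcomm hidem

/-- The radical of the polar form. -/
def rad (h : H) : Submodule (ZMod p) U := LinearMap.ker (polar ρ β h)

theorem mem_rad {h : H} {u : U} : u ∈ rad ρ β h ↔ ∀ w, polar ρ β h u w = 0 := by
  simp [rad, LinearMap.mem_ker, LinearMap.ext_iff]

theorem polar_comm (h : H) (u w : U) : polar ρ β h u w = polar ρ β h w u := by
  rw [polar_apply, polar_apply]
  ring

theorem gauss_factor (ψ : AddChar (ZMod p) ℂ) (h : H)
    (hq : ∀ r ∈ rad ρ β h, qf ρ β h r = 0) :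
    gauss ρ β ψ h =
      (Nat.card (rad ρ β h) : ℂ) * ∑ c : U ⧸ rad ρ β h, ψ (qf ρ β h c.out) := by
  set R := rad ρ β h
  rw [gauss, Finset.mul_sum, ← Finset.sum_fiberwise Finset.univ (Submodule.Quotient.mk (p := R))]
  refine Finset.sum_congr rfl fun c _ => ?_
  have hconst : ∀ u ∈ Finset.univ.filter (fun u => Submodule.Quotient.mk (p := R) u = c),
      ψ (qf ρ β h u) = ψ (qf ρ β h c.out) := by
    intro u hu
    have hu' : Submodule.Quotient.mk (p := R) u = Submodule.Quotient.mk c.out :=
      (Finset.mem_filter.1 hu).2.trans (Submodule.Quotient.mk_out c).symm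
    have hr : u - c.out ∈ R := (Submodule.Quotient.eq R).1 hu'
    conv_lhs => rw [show u = c.out + (u - c.out) by abel]
    rw [qf_add, hq _ hr, polar_comm, (mem_rad ρ β).1 hr, add_zero, add_zero]
  rw [Finset.sum_congr rfl hconst, Finset.sum_const, nsmul_eq_mul]
  refine congrArg (fun n : ℕ => (n : ℂ) * _) ?_
  rw [← Fintype.card_subtype, ← Nat.card_eq_fintype_card]
  refine Nat.card_congr
    { toFun := fun u => ⟨(u : U) - c.out, (Submodule.Quotient.eq R).1
        (u.2.trans (Submodule.Quotient.mk_out c).symm)⟩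
      invFun := fun r => ⟨c.out + (r : U), by
        rw [Submodule.Quotient.mk_add, (Submodule.Quotient.mk_eq_zero R).2 r.2, add_zero,
          Submodule.Quotient.mk_out]⟩
      left_inv := fun u => Subtype.ext (add_sub_cancel _ _)
      right_inv := fun r => Subtype.ext (add_sub_cancel_left _ _) }

theorem normSq_gauss {ψ : AddChar (ZMod p) ℂ} (hψ : ψ ≠ 1) (h : H)
    (hq : ∀ r ∈ rad ρ β h, qf ρ β h r = 0) :
    ‖gauss ρ β ψ h‖ ^ 2 = (Nat.card U : ℝ) * Nat.card (rad ρ β h) := by
  apply Complex.ofReal_injective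
  push_cast
  rw [← Complex.conj_mul', gauss, map_sum, Finset.sum_mul_sum]
  simp only [← AddChar.map_neg_eq_conj, ← AddChar.map_add_eq_mul]
  have hrow : ∀ u : U, ∑ w : U, ψ (-qf ρ β h u + qf ρ β h w) =
      ∑ x : U, ψ (qf ρ β h x + polar ρ β h u x) := fun u => by
    rw [← Equiv.sum_comp (Equiv.addLeft u)]
    refine Finset.sum_congr rfl fun x _ => congrArg ψ ?_
    rw [Equiv.coe_addLeft, qf_add]
    ring
  simp only [hrow]
  rw [Finset.sum_comm]
  simp only [AddChar.map_add_eq_mul, ← Finset.mul_sum]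
  have hin : ∀ x : U, ∑ u : U, ψ (polar ρ β h u x) =
      if x ∈ rad ρ β h then (Nat.card U : ℂ) else 0 := fun x => by
    split_ifs with hx
    · have : ∀ u, ψ (polar ρ β h u x) = 1 := fun u => by
        rw [polar_comm, (mem_rad ρ β).1 hx, AddChar.map_zero_eq_one]
      simp [this, Nat.card_eq_fintype_card]
    · let f : AddChar U ℂ := ψ.compAddMonoidHom (LinearMap.flip (polar ρ β h) x).toAddMonoidHom
      have hf : f ≠ 1 := by
        intro hf
        apply hx
        rw [mem_rad]
        intro u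
        obtain ⟨a, ha⟩ := AddChar.ne_one_iff.1 hψ
        by_contra hne
        refine ha ?_
        have := DFunLike.congr_fun hf ((a * (polar ρ β h x u)⁻¹) • u)
        simpa [f, polar_comm ρ β h u x, inv_mul_cancel₀ hne, mul_assoc] using this
      exact AddChar.sum_eq_zero_of_ne_one hf
  simp only [hin, mul_ite, mul_zero, Finset.sum_ite, Finset.sum_const_zero, add_zero]
  rw [Finset.sum_congr rfl (g := fun _ => (Nat.card U : ℂ)) fun x hx => by
    rw [hq x (Finset.mem_filter.1 hx).2, AddChar.map_zero_eq_one, one_mul], Finset.sum_const,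
    nsmul_eq_mul, mul_comm, ← Fintype.card_subtype, ← Nat.card_eq_fintype_card]

end Cfsg.Agent.KGV
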