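import Mathlib.GroupTheory.SemidirectProduct
import Mathlib.FieldTheory.Finiteness
import Cfsg.Agent.Lib.Char.Gallagher
import Cfsg.Agent.Lib.Char.ExtensionChar
import Cfsg.Agent.Lib.KGV.Gauss

/-!
# The Weil character of a `p'`-group of symplectic transformations, `p` odd

An irreducible character of the Heisenberg group that is non-trivial on the centre extends to the
semidirect product with the group; the square norm of the extension at `h` is the number of vectors
fixed by `h`.
-/

set_option linter.style.haveILetI false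
set_option linter.unusedSectionVars false
set_option linter.unusedDecidableInType false

namespace Cfsg.Agent.KGV

open Cfsg.Agent.Char
open scoped ComplexConjugate Classical

variable {p : ℕ} [hp : Fact p.Prime] {K : Type*} [Group K] [Fintype K] {U : Type*} [AddCommGroup U]
  [Module (ZMod p) U] [Fintype U] (ρ : Representation (ZMod p) K U)
  (β : LinearMap.BilinForm (ZMod p) U) (hβ : ∀ h u w, β (ρ h u) (ρ h w) = β u w)

theorem eq_fixed_of_sq (hcop : ¬ p ∣ Fintype.card K) {h : K} {u : U}
    (hu : ρ h (ρ h u - u) = ρ h u - u) : ρ h u = u := by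
  set x := ρ h u - u with hx
  have hpow : ∀ j : ℕ, ρ (h ^ j) u = u + (j : ZMod p) • x := fun j => by
    induction j with
    | zero => simp
    | succ j ih =>
      rw [pow_succ', map_mul, Module.End.mul_apply, ih, map_add, map_smul, hu, Nat.cast_succ,
        add_smul, one_smul, hx]
      abel
  have h1 := hpow (orderOf h)
  rw [pow_orderOf_eq_one, map_one, Module.End.one_apply, left_eq_add, smul_eq_zero] at h1
  rcases h1 with h1 | h1
  · rw [ZMod.natCast_eq_zero_iff] at h1
    exact absurd (h1.trans orderOf_dvd_card) hcop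
  · exact sub_eq_zero.1 h1

theorem card_fix_mul_range (h : K) :
    Nat.card (LinearMap.range (LinearMap.id - ρ h)) * fixN ρ h = Nat.card U := by
  rw [← card_fixS, ← Nat.card_congr (LinearMap.quotKerEquivRange (LinearMap.id - ρ h)).toEquiv]
  have hk : LinearMap.ker (LinearMap.id - ρ h) = fixS ρ h := by
    ext u
    rw [LinearMap.mem_ker, mem_fixS, LinearMap.sub_apply, LinearMap.id_apply, sub_eq_zero, eq_comm]
  rw [hk, mul_comm]
  exact (Submodule.card_eq_card_quotient_mul_card (fixS ρ h)).symm.trans rfl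

theorem exists_decomp (hcop : ¬ p ∣ Fintype.card K) (h : K) :
    Function.Bijective fun cr : fixS ρ h × LinearMap.range (LinearMap.id - ρ h) =>
      cr.1.1 + cr.2.1 := by
  have hinj : Function.Injective fun cr : fixS ρ h × LinearMap.range (LinearMap.id - ρ h) =>
      cr.1.1 + cr.2.1 := by
    rintro ⟨c, ⟨r, hr⟩⟩ ⟨c', ⟨r', hr'⟩⟩ e
    obtain ⟨w, hw⟩ := LinearMap.mem_range.1 (sub_mem hr hr')
    have e1 : r - r' = (c' : U) - c := by
      simp only at e
      rw [sub_eq_sub_iff_add_eq_add, add_comm r, e, add_comm]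
    have h1 : ρ h (r - r') = r - r' := by
      rw [e1, map_sub, (mem_fixS ρ).1 c'.2, (mem_fixS ρ).1 c.2]
    simp only [LinearMap.sub_apply, LinearMap.id_apply] at hw
    have h2 : ρ h (ρ h w - w) = ρ h w - w := by
      rw [← neg_sub w (ρ h w), hw, map_neg, h1]
    have h3 := eq_fixed_of_sq ρ hcop h2
    have h4 : r = r' := by rw [← sub_eq_zero, ← hw, h3, sub_self]
    rw [h4, sub_self] at e1
    exact Prod.ext (Subtype.ext (sub_eq_zero.1 e1.symm).symm) (Subtype.ext h4)
  refine (Fintype.bijective_iff_injective_and_card _).2 ⟨hinj, ?_⟩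
  simp only [← Nat.card_eq_fintype_card, Nat.card_prod, card_fixS]
  rw [mul_comm]
  exact card_fix_mul_range ρ h

/-- The Heisenberg group of a bilinear form. -/
@[ext] structure Heis (β : LinearMap.BilinForm (ZMod p) U) where
  u : U
  a : ZMod p

namespace Heis

variable {β}

instance : Mul (Heis β) := ⟨fun x y => ⟨x.u + y.u, x.a + y.a + β x.u y.u⟩⟩
instance : One (Heis β) := ⟨⟨0, 0⟩⟩
instance : Inv (Heis β) := ⟨fun x => ⟨-x.u, -x.a + β x.u x.u⟩⟩

@[simp] theorem mul_u (x y : Heis β) : (x * y).u = x.u + y.u := rfl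
@[simp] theorem mul_a (x y : Heis β) : (x * y).a = x.a + y.a + β x.u y.u := rfl
@[simp] theorem one_u : (1 : Heis β).u = 0 := rfl
@[simp] theorem one_a : (1 : Heis β).a = 0 := rfl
@[simp] theorem inv_u (x : Heis β) : x⁻¹.u = -x.u := rfl
@[simp] theorem inv_a (x : Heis β) : x⁻¹.a = -x.a + β x.u x.u := rfl

instance : Group (Heis β) where
  mul_assoc x y z := by
    ext
    · simp [add_assoc]
    · simp only [mul_u, mul_a, map_add, LinearMap.add_apply]; ring
  one_mul x := by ext <;> simp
  mul_one x := by ext <;> simp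
  inv_mul_cancel x := by
    ext
    · simp
    · simp only [mul_a, inv_a, inv_u, one_a, map_neg, LinearMap.neg_apply]; ring

/-- The underlying equivalence. -/
def equivProd : Heis β ≃ U × ZMod p where
  toFun x := (x.u, x.a)
  invFun x := ⟨x.1, x.2⟩
  left_inv _ := rfl
  right_inv _ := rfl

instance : Finite (Heis β) := Finite.of_equiv _ equivProd.symm

theorem pow_central (a : ZMod p) (j : ℕ) : (⟨0, a⟩ : Heis β) ^ j = ⟨0, j • a⟩ := by
  induction j with
  | zero => ext <;> simp
  | succ j ih => rw [pow_succ, ih]; ext <;> simp [add_mul]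

end Heis

/-- The action on the Heisenberg group. -/
def heisAct : K →* MulAut (Heis β) where
  toFun h :=
    { toFun := fun x => ⟨ρ h x.u, x.a⟩
      invFun := fun x => ⟨ρ h⁻¹ x.u, x.a⟩
      left_inv := fun x => Heis.ext (rho_inv_apply ρ h x.u) rfl
      right_inv := fun x => Heis.ext (rho_apply_inv ρ h x.u) rfl
      map_mul' := fun x y => Heis.ext (map_add _ _ _)
        (by show x.a + y.a + β x.u y.u = x.a + y.a + β (ρ h x.u) (ρ h y.u); rw [hβ]) }
  map_one' := MulEquiv.ext fun x => Heis.ext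
    (by show ρ 1 x.u = x.u; rw [map_one, Module.End.one_apply]) rfl
  map_mul' a b := MulEquiv.ext fun x => Heis.ext
    (by show ρ (a * b) x.u = ρ a (ρ b x.u); rw [map_mul, Module.End.mul_apply]) rfl

theorem heisAct_apply (h : K) (x : Heis β) : heisAct ρ β hβ h x = ⟨ρ h x.u, x.a⟩ := rfl

/-- The Heisenberg group extended by `K`. -/
abbrev HG := SemidirectProduct (Heis β) K (heisAct ρ β hβ)

theorem heisAct_symm_u (h : K) (x : Heis β) :
    ((MulEquiv.symm (heisAct ρ β hβ h)) x).u = ρ h⁻¹ x.u := rfl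

include hβ in
/-- The Weil character. -/
theorem exists_weil (hp2 : p ≠ 2) (hcop : ¬ p ∣ Fintype.card K) (halt : ∀ u, β u u = 0)
    (hnd : ∀ u, (∀ w, β u w = 0) → u = 0) :
    ∃ χ : K → ℂ, Cfsg.IsCharacter K χ ∧
      ∀ (σ : ℂ ≃+* ℂ) (h : K), ‖σ (χ h)‖ ^ 2 = (fixN ρ h : ℝ) := by
  haveI : Finite (HG ρ β hβ) := Finite.of_equiv _ SemidirectProduct.equivProd.symm
  haveI : Fintype (HG ρ β hβ) := Fintype.ofFinite (HG ρ β hβ)
  let N : Subgroup (HG ρ β hβ) := (SemidirectProduct.rightHom : (HG ρ β hβ) →* K).ker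
  haveI : Fintype N := Fintype.ofFinite N
  have hskew : ∀ u w, β u w = - β w u := fun u w => by
    have := halt (u + w)
    simp only [map_add, LinearMap.add_apply, halt, zero_add, add_zero] at this
    linear_combination this
  have h2 : (2 : ZMod p) ≠ 0 := by
    intro h
    have h' : ((2 : ℕ) : ZMod p) = 0 := by exact_mod_cast h
    rw [ZMod.natCast_eq_zero_iff, Nat.prime_dvd_prime_iff_eq hp.out Nat.prime_two] at h'
    exact hp2 h'
  let za : ZMod p → (HG ρ β hβ) := fun a => SemidirectProduct.inl ⟨0, a⟩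
  have hzN : ∀ a, za a ∈ N := fun a => SemidirectProduct.rightHom_inl _
  have hleftN : ∀ n : N, (n : (HG ρ β hβ)) = SemidirectProduct.inl (n : (HG ρ β hβ)).left := fun n =>
    SemidirectProduct.ext rfl (by exact n.2)
  have hzc : ∀ a (g : (HG ρ β hβ)), za a * g = g * za a := fun a g => by
    refine SemidirectProduct.ext ?_ (by simp [za])
    simp only [za, SemidirectProduct.mul_left, SemidirectProduct.left_inl,
      SemidirectProduct.right_inl, map_one, MulAut.one_apply, heisAct_apply, map_zero]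
    ext
    · simp
    · simp [add_comm]
  have hzpow : ∀ a : ZMod p, za a = za 1 ^ a.val := fun a => by
    simp only [za, ← map_pow, Heis.pow_central, nsmul_eq_mul, mul_one, ZMod.natCast_zmod_val]
  have hz1 : za 1 ≠ 1 := fun h => by
    have := congrArg (fun g : (HG ρ β hβ) => g.left.a) h
    simp [za] at this
  -- an irreducible character of `N` non-trivial on the centre
  obtain ⟨θ, hθ⟩ : ∃ θ : Cfsg.IrrCharacter N, (θ : N → ℂ) ⟨za 1, hzN 1⟩ ≠ (θ : N → ℂ) 1 := by
    by_contra hall
    push Not at hall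
    have := (isConj_iff_forall_irr (⟨za 1, hzN 1⟩ : N) 1).2 hall
    rw [isConj_one_left] at this
    exact hz1 (congrArg Subtype.val this)
  have hzord : ∀ {L : Subgroup (HG ρ β hβ)} (hL : za 1 ∈ L) (ψ : Cfsg.IrrCharacter L) {c : ℂ},
      (∀ g, (ψ : L → ℂ) (⟨za 1, hL⟩ * g) = c * (ψ : L → ℂ) g) →
      ((ψ : L → ℂ) ⟨za 1, hL⟩ ≠ (ψ : L → ℂ) 1) →
      ∀ a : ZMod p, a ≠ 0 → c ^ a.val ≠ 1 := by
    intro L hL ψ c hc hne a ha
    have hj : ∀ j : ℕ, (ψ : L → ℂ) (⟨za 1, hL⟩ ^ j) = c ^ j * (ψ : L → ℂ) 1 := fun j => by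
      induction j with
      | zero => simp
      | succ j ih => rw [pow_succ', hc, ih, pow_succ', mul_assoc]
    have hp1 : c ^ p = 1 := by
      have h := hj p
      have hzp : (⟨za 1, hL⟩ : L) ^ p = 1 := Subtype.ext (by
        show za 1 ^ p = 1
        simp only [za, ← map_pow, Heis.pow_central, nsmul_eq_mul, mul_one, ZMod.natCast_self]
        exact map_one _)
      rw [hzp] at h
      exact (mul_right_cancel₀ (IsIrrCharacter.one_ne_zero ψ.2) ((one_mul _).trans h)).symm
    have hc1 : c ≠ 1 := fun h => hne (by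
      have h' := hc 1
      rwa [mul_one, h, one_mul] at h')
    intro h
    have hdvd := orderOf_dvd_of_pow_eq_one h
    rw [orderOf_eq_prime hp1 hc1] at hdvd
    exact ha ((ZMod.val_eq_zero a).1 (Nat.eq_zero_of_dvd_of_lt hdvd (ZMod.val_lt a)))
  obtain ⟨c, -, hcs, -⟩ := IsIrrCharacter.exists_central_scalar θ.2
    (z := (⟨za 1, hzN 1⟩ : N)) (Subgroup.mem_center_iff.2 fun g => Subtype.ext (hzc 1 g).symm)
  have hvanish : ∀ n : N, (n : (HG ρ β hβ)).left.u ≠ 0 → (θ : N → ℂ) n = 0 := by
    intro n hn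
    obtain ⟨w, hw⟩ : ∃ w, β w (n : (HG ρ β hβ)).left.u ≠ 0 := by
      by_contra hall
      push Not at hall
      exact hn (hnd _ fun w => by rw [hskew, hall, neg_zero])
    set a := β w (n : (HG ρ β hβ)).left.u - β (n : (HG ρ β hβ)).left.u w with ha
    have ha0 : a ≠ 0 := by
      rw [ha, hskew (n : (HG ρ β hβ)).left.u w, sub_neg_eq_add, ← two_mul]
      exact mul_ne_zero h2 hw
    let e : N := ⟨SemidirectProduct.inl ⟨w, 0⟩, SemidirectProduct.rightHom_inl _⟩
    have hconj : e * n * e⁻¹ = (⟨za 1, hzN 1⟩ : N) ^ a.val * n := by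
      refine Subtype.ext ?_
      show SemidirectProduct.inl _ * (n : (HG ρ β hβ)) * (SemidirectProduct.inl _)⁻¹ = za 1 ^ a.val * (n : (HG ρ β hβ))
      rw [hleftN n, ← hzpow, ← map_inv, ← map_mul, ← map_mul, ← map_mul]
      refine congrArg _ ?_
      ext
      · simp
      · simp only [Heis.mul_a, Heis.mul_u, Heis.inv_a, Heis.inv_u, map_neg, map_add,
          LinearMap.add_apply, LinearMap.neg_apply, map_zero, LinearMap.zero_apply, ha]
        rw [hleftN n]
        simp only [SemidirectProduct.left_inl]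
        ring
    have h1 := (IsCharacter.isClassFunction (IsIrrCharacter.isCharacter θ.2)) n e
    rw [hconj] at h1
    have hj : ∀ j : ℕ, (θ : N → ℂ) ((⟨za 1, hzN 1⟩ : N) ^ j * n) = c ^ j * (θ : N → ℂ) n := fun j => by
      induction j with
      | zero => simp
      | succ j ih => rw [pow_succ', mul_assoc, hcs, ih, pow_succ', mul_assoc]
    rw [hj] at h1
    by_contra hne
    exact hzord (hzN 1) θ hcs hθ a ha0 ((mul_eq_right₀ hne).1 h1)
  have hconjleft : ∀ (g : (HG ρ β hβ)) (n : N), ((g * (n : (HG ρ β hβ)) * g⁻¹).left).u = ρ g.right (n : (HG ρ β hβ)).left.u := by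
    intro g n
    rw [hleftN n]
    simp [heisAct_apply, heisAct_symm_u, rho_apply_inv]
  have hinv : ∀ (g : (HG ρ β hβ)) (n : N),
      (θ : N → ℂ) ⟨g * n * g⁻¹, (inferInstance : N.Normal).conj_mem (n : (HG ρ β hβ)) n.2 g⟩ = (θ : N → ℂ) n := by
    intro g n
    by_cases hn : (n : (HG ρ β hβ)).left.u = 0
    · refine congrArg _ (Subtype.ext ?_)
      show g * (n : (HG ρ β hβ)) * g⁻¹ = n
      have : (n : (HG ρ β hβ)) = za (n : (HG ρ β hβ)).left.a := by
        rw [hleftN n]
        refine congrArg _ (Heis.ext ?_ ?_)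
        · simpa using hn
        · simp
      rw [this, ← hzc, mul_inv_cancel_right]
    · rw [hvanish n hn, hvanish]
      intro h0
      rw [hconjleft] at h0
      exact hn (by simpa [rho_inv_apply] using congrArg (ρ g.right⁻¹) h0)
  -- extension
  obtain ⟨d, σ, hσ, hσθ, hd, hiσ⟩ := CharExtend.exists_setup θ.2 hinv
  have hdet : ∀ (g : (HG ρ β hβ)) (n : N), CharExtend.detHom σ
      ⟨g * n * g⁻¹, (inferInstance : N.Normal).conj_mem (n : (HG ρ β hβ)) n.2 g⟩ = CharExtend.detHom σ n := by
    intro g n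
    obtain ⟨e⟩ := nonempty_equiv_of_char_eq
      (σ.comp (conjHom N g) : Representation ℂ N (Fin d → ℂ)) σ (hiσ g)
    exact Units.ext (CharExtend.det_eq_of_equiv e n).symm
  let μ : (HG ρ β hβ) →* ℂˣ := SemidirectProduct.lift
    ((CharExtend.detHom σ).comp ((SemidirectProduct.inl : Heis β →* (HG ρ β hβ)).codRestrict N
      fun x => SemidirectProduct.rightHom_inl x)) 1 (fun k => by
    refine MonoidHom.ext fun x => ?_
    show CharExtend.detHom σ ⟨SemidirectProduct.inl (heisAct ρ β hβ k x), _⟩ =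
      MulAut.conj (1 : ℂˣ) (CharExtend.detHom σ ⟨SemidirectProduct.inl x, _⟩)
    rw [map_one, MulAut.one_apply, ← hdet (SemidirectProduct.inr k)
      ⟨SemidirectProduct.inl x, SemidirectProduct.rightHom_inl x⟩]
    refine congrArg _ (Subtype.ext ?_)
    exact (SemidirectProduct.inl_aut k x).trans (by rw [map_inv]))
  have hμ : ∀ n : N, (μ n : ℂ) = Cfsg.detChar (θ : N → ℂ) n := fun n => by
    rw [← hσθ, CharExtend.detChar_eq]
    refine congrArg Units.val ?_
    conv_lhs => rw [hleftN n]
    rw [SemidirectProduct.lift_inl]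
    rw [MonoidHom.comp_apply]
    exact congrArg (CharExtend.detHom σ) (Subtype.ext (hleftN n).symm)
  have hidx : N.index = Fintype.card K := by
    rw [Subgroup.index_ker, MonoidHom.range_eq_top.2 SemidirectProduct.rightHom_surjective,
      Subgroup.card_top, Nat.card_eq_fintype_card]
  obtain ⟨r, hr⟩ : ∃ r, Nat.card U = p ^ r :=
    ⟨_, (Module.natCard_eq_pow_finrank (K := ZMod p)).trans (by rw [Nat.card_zmod])⟩
  have hNcard : Nat.card N = p ^ (r + 1) := by
    have h := N.index_mul_card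
    rw [hidx, Nat.card_congr SemidirectProduct.equivProd, Nat.card_prod,
      Nat.card_congr Heis.equivProd, Nat.card_prod, Nat.card_zmod, hr,
      Nat.card_eq_fintype_card (α := K), mul_comm (p ^ r * p)] at h
    rw [pow_succ]
    exact Nat.eq_of_mul_eq_mul_left Fintype.card_pos h
  have hdN : (θ : N → ℂ) 1 = d := hd
  obtain ⟨χ, hχ, hext⟩ := CharExtend.exists_extension_det θ.2 hinv hdN (by
    obtain ⟨j, -, hj⟩ := (Nat.dvd_prime_pow hp.out).1 (hNcard ▸ degree_dvd_card θ.2 hdN)
    rw [hidx, hj]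
    exact (Nat.Coprime.pow_left _ (hp.out.coprime_iff_not_dvd.2 hcop)).symm) μ hμ
  -- the norm
  have hnorm : ∀ ξ : Cfsg.IrrCharacter (HG ρ β hβ), Cfsg.IsIrrCharacter N (fun n : N => (ξ : (HG ρ β hβ) → ℂ) n) →
      (ξ : (HG ρ β hβ) → ℂ) (za 1) ≠ (ξ : (HG ρ β hβ) → ℂ) 1 → ∀ h : K,
      ‖(ξ : (HG ρ β hβ) → ℂ) (SemidirectProduct.inr h)‖ ^ 2 = (fixN ρ h : ℝ) := by
    intro ξ hres hξz h
    have hξc := IsCharacter.isClassFunction (IsIrrCharacter.isCharacter ξ.2)
    obtain ⟨hg1, hg2, -⟩ := gallagher_one N (IsIrrCharacter.isCharacter ξ.2) hres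
    have havg : cosetAvg N (ξ : (HG ρ β hβ) → ℂ) ξ = fun _ => 1 := by
      refine eq_of_forall_classInner (isClassFunction_cosetAvg N hξc hξc) (fun _ _ => rfl) fun b => ?_
      rw [classInner_cosetAvg N hξc hξc b, classInner_irr isIrrCharacter_one b.2]
      by_cases hb : ∀ n : N, (b : (HG ρ β hβ) → ℂ) n = (b : (HG ρ β hβ) → ℂ) 1
      · rw [if_pos hb, classInner_irr ξ.2 (hg1 b hb)]
        refine if_congr ⟨fun e => ?_, fun e => ?_⟩ rfl rfl
        · have := hg2 ⟨_, isIrrCharacter_one⟩ b (fun _ => rfl) hb (by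
            show (fun _ : (HG ρ β hβ) => (1 : ℂ)) * (ξ : (HG ρ β hβ) → ℂ) = _
            rw [← e]
            funext g
            simp)
          exact congrArg Subtype.val this
        · rw [← e]
          funext g
          simp
      · rw [if_neg hb, if_neg]
        intro e
        exact hb fun n => by rw [← e]
    obtain ⟨c, hcn, hcs, -⟩ := IsIrrCharacter.exists_central_scalar ξ.2
      (z := za 1) (Subgroup.mem_center_iff.2 fun g => (hzc 1 g).symm)
    have hj : ∀ (j : ℕ) (g : (HG ρ β hβ)), (ξ : (HG ρ β hβ) → ℂ) (za 1 ^ j * g) = c ^ j * (ξ : (HG ρ β hβ) → ℂ) g := fun j g => by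
      induction j with
      | zero => simp
      | succ j ih => rw [pow_succ', mul_assoc, hcs, ih, pow_succ', mul_assoc]
    let F : U → ℝ := fun u =>
      ‖(ξ : (HG ρ β hβ) → ℂ) (SemidirectProduct.inl ⟨u, 0⟩ * SemidirectProduct.inr h)‖ ^ 2
    have hFn : ∀ (u : U) (a : ZMod p),
        ‖(ξ : (HG ρ β hβ) → ℂ) (SemidirectProduct.inl ⟨u, a⟩ * SemidirectProduct.inr h)‖ ^ 2 = F u := by
      intro u a
      have : (⟨u, a⟩ : Heis β) = ⟨0, a⟩ * ⟨u, 0⟩ := by ext <;> simp
      rw [this, map_mul, mul_assoc, show SemidirectProduct.inl (⟨0, a⟩ : Heis β) = za a from rfl,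
        hzpow, hj, norm_mul, norm_pow, hcn, one_pow, one_mul]
    have hsum : ∑ u : U, F u = (Nat.card U : ℝ) := by
      have h1 := congrFun havg (SemidirectProduct.inr h)
      simp only [cosetAvg, Complex.mul_conj'] at h1
      rw [inv_mul_eq_one₀ (Nat.cast_ne_zero.2 Nat.card_pos.ne'), hNcard] at h1
      let eN : N ≃ U × ZMod p :=
        { toFun := fun n => ((n : (HG ρ β hβ)).left.u, (n : (HG ρ β hβ)).left.a)
          invFun := fun x => ⟨SemidirectProduct.inl ⟨x.1, x.2⟩, SemidirectProduct.rightHom_inl _⟩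
          left_inv := fun n => Subtype.ext (hleftN n).symm
          right_inv := fun x => rfl }
      rw [← Equiv.sum_comp eN.symm, Fintype.sum_prod_type] at h1
      have h2 : ((p ^ (r + 1) : ℕ) : ℝ) = ∑ u : U, ∑ _a : ZMod p, F u := by
        apply Complex.ofReal_injective
        push_cast at h1 ⊢
        rw [h1]
        refine Finset.sum_congr rfl fun u _ => Finset.sum_congr rfl fun a _ => ?_
        rw [← hFn u a]
        simp [eN]
        rfl
      simp only [Finset.sum_const, Finset.card_univ, ZMod.card, nsmul_eq_mul, ← Finset.mul_sum] at h2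
      rw [hr]
      push_cast at h2 ⊢
      rw [pow_succ, mul_comm] at h2
      exact (mul_left_cancel₀ (Nat.cast_ne_zero.2 hp.out.ne_zero) h2).symm
    have hshift : ∀ u w : U, F (u + (w - ρ h w)) = F u := by
      intro u w
      let e : (HG ρ β hβ) := SemidirectProduct.inl ⟨w, 0⟩
      have hconj : e * (SemidirectProduct.inl ⟨u, 0⟩ * SemidirectProduct.inr h) * e⁻¹ =
          SemidirectProduct.inl ((⟨w, 0⟩ : Heis β) * ⟨u, 0⟩ * heisAct ρ β hβ h (⟨w, 0⟩⁻¹)) *
            SemidirectProduct.inr h := by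
        simp only [e, map_mul, ← map_inv, mul_assoc]
        rw [SemidirectProduct.inl_aut]
        simp [mul_assoc]
      have hu : ((⟨w, 0⟩ : Heis β) * ⟨u, 0⟩ * heisAct ρ β hβ h (⟨w, 0⟩⁻¹)).u = u + (w - ρ h w) := by
        simp [heisAct_apply]
        abel
      have h1 := hξc (SemidirectProduct.inl ⟨u, 0⟩ * SemidirectProduct.inr h) e
      rw [hconj] at h1
      rw [← hu]
      refine (hFn _ ((⟨w, 0⟩ : Heis β) * ⟨u, 0⟩ * heisAct ρ β hβ h (⟨w, 0⟩⁻¹)).a).symm.trans ?_
      exact congrArg (fun z : ℂ => ‖z‖ ^ 2) h1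
    have hF0 : ∀ u : U, ρ h u = u → u ≠ 0 → F u = 0 := by
      intro u hu hu0
      obtain ⟨d', hd'⟩ : ∃ d' : fixS ρ h, β (d' : U) u ≠ 0 := by
        by_contra hall
        push Not at hall
        refine hu0 (hnd u fun w => ?_)
        obtain ⟨⟨c', ⟨_, x, rfl⟩⟩, rfl⟩ := (exists_decomp ρ hcop h).2 w
        simp only [LinearMap.sub_apply, LinearMap.id_apply, map_add, map_sub]
        rw [hskew u c', hall c']
        conv_lhs => arg 2; arg 1; rw [← hβ h u x]
        rw [hu]
        simp
      set a := β (d' : U) u - β u (d' : U) with ha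
      have ha0 : a ≠ 0 := by
        rw [ha, hskew u (d' : U), sub_neg_eq_add, ← two_mul]
        exact mul_ne_zero h2 hd'
      let e : (HG ρ β hβ) := SemidirectProduct.inl ⟨(d' : U), 0⟩
      have hconj : e * (SemidirectProduct.inl ⟨u, 0⟩ * SemidirectProduct.inr h) * e⁻¹ =
          za 1 ^ a.val * (SemidirectProduct.inl ⟨u, 0⟩ * SemidirectProduct.inr h) := by
        have he : e * SemidirectProduct.inr h = SemidirectProduct.inr h * e := by
          refine SemidirectProduct.ext ?_ (by simp [e])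
          simp [e, heisAct_apply, (mem_fixS ρ).1 d'.2]
        have he' : SemidirectProduct.inr h * e⁻¹ = e⁻¹ * SemidirectProduct.inr h :=
          ((Commute.inv_left (show Commute e (SemidirectProduct.inr h) from he))).symm.eq
        rw [← hzpow, mul_assoc, mul_assoc, he', ← mul_assoc, ← mul_assoc, ← mul_assoc]
        refine congrArg (· * _) ?_
        simp only [e, za, ← map_inv, ← map_mul]
        refine congrArg _ ?_
        ext
        · simp
        · simp only [Heis.mul_a, Heis.mul_u, Heis.inv_a, Heis.inv_u, map_neg, map_add,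
            LinearMap.add_apply, map_zero, LinearMap.zero_apply, ha]
          ring
      have h1 := hξc (SemidirectProduct.inl ⟨u, 0⟩ * SemidirectProduct.inr h) e
      rw [hconj, hj] at h1
      have hne : (ξ : (HG ρ β hβ) → ℂ) (SemidirectProduct.inl ⟨u, 0⟩ * SemidirectProduct.inr h) = 0 := by
        by_contra hne
        have hord : c ^ a.val ≠ 1 := by
          let ξN : Cfsg.IrrCharacter N := ⟨fun n : N => (ξ : (HG ρ β hβ) → ℂ) n, hres⟩
          refine hzord (hzN 1) ξN (fun g => hcs g) ?_ a ha0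
          exact hξz
        exact hord ((mul_eq_right₀ hne).1 h1)
      show ‖_‖ ^ 2 = 0
      rw [hne, norm_zero]
      norm_num
    have hF1 : ∑ u : U, F u = (Nat.card (LinearMap.range (LinearMap.id - ρ h)) : ℝ) * F 0 := by
      rw [← Equiv.sum_comp (Equiv.ofBijective _ (exists_decomp ρ hcop h)), Fintype.sum_prod_type]
      have : ∀ (c' : fixS ρ h) (x : LinearMap.range (LinearMap.id - ρ h)),
          F (Equiv.ofBijective _ (exists_decomp ρ hcop h) (c', x)) = F (c' : U) := by
        rintro c' ⟨_, y, rfl⟩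
        simpa using hshift (c' : U) y
      simp only [this, Finset.sum_const, Finset.card_univ, nsmul_eq_mul, ← Nat.card_eq_fintype_card]
      rw [← Finset.mul_sum, Finset.sum_eq_single 0]
      · rfl
      · exact fun b _ hb => hF0 _ ((mem_fixS ρ).1 b.2) fun e => hb (Subtype.ext e)
      · exact fun h0 => absurd (Finset.mem_univ _) h0
    rw [hsum, ← card_fix_mul_range ρ h, Nat.cast_mul] at hF1
    have hF00 : F 0 = ‖(ξ : (HG ρ β hβ) → ℂ) (SemidirectProduct.inr h)‖ ^ 2 := by
      show ‖(ξ : (HG ρ β hβ) → ℂ) (SemidirectProduct.inl (1 : Heis β) * SemidirectProduct.inr h)‖ ^ 2 = _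
      rw [map_one, one_mul]
    rw [← hF00]
    exact (mul_left_cancel₀ (Nat.cast_ne_zero.2 Nat.card_pos.ne') hF1).symm
  refine ⟨fun h => χ (SemidirectProduct.inr h),
    IsCharacter.comp (IsIrrCharacter.isCharacter hχ) SemidirectProduct.inr, fun τ h => ?_⟩
  refine hnorm ⟨_, CharGalois.IsIrrCharacter.twist hχ τ⟩ ?_ ?_ h
  · simp only [hext]
    exact CharGalois.IsIrrCharacter.twist θ.2 τ
  · show τ (χ (za 1)) ≠ τ (χ 1)
    refine fun e => hθ ?_
    rw [← hext ⟨za 1, hzN 1⟩, ← hext 1]
    exact τ.injective e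

end Cfsg.Agent.KGV
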