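import Mathlib.LinearAlgebra.Prod
import Mathlib.Algebra.Ring.NegOnePow
import Cfsg.Agent.Lib.KGV.Weil

/-!
# A class function of absolute square `|U| / |C_U h|` for a self-dual coprime module

For a `p'`-group `H` preserving a non-degenerate symmetric or alternating form on `U` there is a
class function `η` with integral coefficients, `η 1 = ±1`, `|η h|² |C_U h| = |U|` for all conjugates
and `η h` in every prime over `p` for `h` acting non-trivially.
-/

set_option linter.style.haveILetI false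
set_option linter.unusedSectionVars false
set_option linter.unusedDecidableInType false

namespace Cfsg.Agent.KGV

open Cfsg.Agent.Char
open scoped ComplexConjugate Classical

variable {p : ℕ} [hp : Fact p.Prime] {H : Type*} [Group H] [Fintype H] {U : Type*} [AddCommGroup U]
  [Module (ZMod p) U] [Fintype U] (ρ : Representation (ZMod p) H U)
  (β : LinearMap.BilinForm (ZMod p) U)

/-- The properties of `η`. -/
structure Good (n : ℕ) (η : H → ℂ) : Prop where
  intCF : IntCF η
  cyc : ∀ h, Cyc n (η h)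
  one : η 1 = 1 ∨ η 1 = -1
  norm : ∀ (σ : ℂ ≃+* ℂ) h, ‖σ (η h)‖ ^ 2 * (fixN ρ h : ℝ) = Nat.card U
  mem : ∀ M : Ideal Cfsg.AlgInt, Cfsg.IsPModular p M → ∀ h, fixN ρ h ≠ Nat.card U →
    ∃ a ∈ M, (a : ℂ) = η h

theorem exists_card_pow : ∃ r, Nat.card U = p ^ r :=
  ⟨_, (Module.natCard_eq_pow_finrank (K := ZMod p)).trans (by rw [Nat.card_zmod])⟩

theorem exists_fix_pow (h : H) {r : ℕ} (hr : Nat.card U = p ^ r) :
    ∃ j ≤ r, fixN ρ h = p ^ j := by
  rw [← card_fixS]
  exact (Nat.dvd_prime_pow hp.out).1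
    (hr ▸ (fixS ρ h).toAddSubgroup.card_addSubgroup_dvd_card)

theorem vchar_fixN : VChar fun h => (fixN ρ h : ℂ) := by
  letI : MulAction H U :=
    { smul := fun h u => ρ h u
      one_smul := fun u => by show ρ 1 u = u; rw [map_one, Module.End.one_apply]
      mul_smul := fun a b u => by show ρ (a * b) u = ρ a (ρ b u); rw [map_mul, Module.End.mul_apply] }
  have hc : (fun h => (fixN ρ h : ℂ)) = (Representation.ofMulAction ℂ H U).character :=
    funext fun h => (character_ofMulAction U h).symm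
  rw [hc]
  exact VChar.of_char (isCharacter_of_rep _)

/-- A generalized character inverse to the permutation character up to a power of `p`. -/
theorem exists_inv_fix : ∃ (Q : H → ℂ) (c : ℤ) (m : ℕ), c.natAbs = p ^ m ∧ VChar Q ∧
    ∀ h, Q h * (fixN ρ h : ℂ) = (c : ℂ) := by
  obtain ⟨r, hr⟩ := exists_card_pow (p := p) (U := U)
  have hconst : ∀ k : ℕ, VChar fun _ : H => (k : ℂ) := fun k => by
    have e : (fun _ : H => (k : ℂ)) = (k : ℂ) • fun _ : H => (1 : ℂ) := by funext _; simp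
    rw [e]
    exact VChar.of_char (IsCharacter.nsmul isCharacter_one k)
  have hneg : ∀ {f : H → ℂ}, VChar f → VChar (-f) := fun {f} hf => by
    have := (VChar.of_char isCharacter_zero).sub hf
    rwa [zero_sub] at this
  have key : ∀ j : ℕ, ∃ (G : H → ℂ) (c : ℤ) (m : ℕ), c.natAbs = p ^ m ∧ VChar G ∧
      ∀ h, ∏ i ∈ Finset.range (j + 1), ((fixN ρ h : ℂ) - ((p ^ i : ℕ) : ℂ)) =
        (fixN ρ h : ℂ) * G h + c := by
    intro j
    induction j with
    | zero =>
      refine ⟨fun _ => ((1 : ℕ) : ℂ), -1, 0, by simp, hconst 1, fun h => ?_⟩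
      simp [sub_eq_add_neg]
    | succ j ih =>
      obtain ⟨G, c, m, hc, hG, e⟩ := ih
      refine ⟨G * ((fun h => (fixN ρ h : ℂ)) - fun _ => ((p ^ (j + 1) : ℕ) : ℂ)) + (c : ℂ) • (fun _ : H => (1 : ℂ)),
        -(c * (p ^ (j + 1) : ℕ)), m + (j + 1), ?_, ?_, fun h => ?_⟩
      · rw [Int.natAbs_neg, Int.natAbs_mul, hc, Int.natAbs_natCast, ← pow_add]
      · have h1 := hG.mul ((vchar_fixN ρ).sub (hconst (p ^ (j + 1))))
        have h2 : VChar ((c : ℂ) • (fun _ : H => (1 : ℂ))) := by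
          rcases Int.natAbs_eq c with h | h
          · rw [h, Int.cast_natCast]
            exact VChar.of_char (IsCharacter.nsmul isCharacter_one _)
          · rw [h, Int.cast_neg, Int.cast_natCast, neg_smul]
            exact hneg (VChar.of_char (IsCharacter.nsmul isCharacter_one _))
        have := h1.sub (hneg h2)
        rwa [sub_neg_eq_add] at this
      · rw [Finset.prod_range_succ, e h]
        simp only [Pi.add_apply, Pi.mul_apply, Pi.sub_apply, Pi.smul_apply, Pi.one_apply,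
          smul_eq_mul]
        push_cast
        ring
  obtain ⟨G, c, m, hc, hG, e⟩ := key r
  refine ⟨-G, c, m, hc, hneg hG, fun h => ?_⟩
  obtain ⟨j, hj, hfix⟩ := exists_fix_pow ρ h hr
  have h0 : ∏ i ∈ Finset.range (r + 1), ((fixN ρ h : ℂ) - ((p ^ i : ℕ) : ℂ)) = 0 :=
    Finset.prod_eq_zero (Finset.mem_range.2 (Nat.lt_succ_of_le hj)) (by rw [hfix, sub_self])
  rw [e h] at h0
  simp only [Pi.neg_apply]
  linear_combination -h0

theorem sum_roots_mem {M : Ideal Cfsg.AlgInt} (hM : Cfsg.IsPModular p M) {ι : Type*} [Fintype ι]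
    (ψ : AddChar (ZMod p) ℂ) (f : ι → ZMod p) (hι : p ∣ Fintype.card ι) :
    ∃ a ∈ M, (a : ℂ) = ∑ i, ψ (f i) := by
  let b : ι → Cfsg.AlgInt := fun i => ⟨ψ (f i), isIntegral_addChar ψ _⟩
  refine ⟨∑ i, b i, ?_, by simp [b]⟩
  have h1 : ∑ i, (b i - 1) ∈ M := M.sum_mem fun i _ => sub_one_mem_of_pow_eq_one hM (k := 1)
    (Subtype.ext (by simpa [b] using addChar_pow_eq_one ψ (f i)))
  rw [Finset.sum_sub_distrib, Finset.sum_const, Finset.card_univ, nsmul_eq_mul, mul_one] at h1
  have h2 : ((Fintype.card ι : ℕ) : Cfsg.AlgInt) ∈ M := by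
    exact_mod_cast intCast_mem hM (d := (Fintype.card ι : ℤ)) (by exact_mod_cast hι)
  exact sub_add_cancel (∑ i, b i) (Fintype.card ι : Cfsg.AlgInt) ▸ M.add_mem h1 h2

theorem twist_ne_one {ψ : AddChar (ZMod p) ℂ} (hψ : ψ ≠ 1) (σ : ℂ ≃+* ℂ) :
    σ.toRingHom.toMonoidHom.compAddChar ψ ≠ 1 := by
  intro h
  refine hψ (DFunLike.ext _ _ fun a => σ.injective ?_)
  have := DFunLike.congr_fun h a
  simpa using this

theorem stdAddChar_ne_one : (ZMod.stdAddChar : AddChar (ZMod p) ℂ) ≠ 1 := by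
  intro h
  have := DFunLike.congr_fun h (1 : ZMod p)
  rw [AddChar.one_apply, ← AddChar.map_zero_eq_one (ZMod.stdAddChar : AddChar (ZMod p) ℂ)] at this
  exact one_ne_zero (ZMod.injective_stdAddChar this)

/-- The normalized Gauss sum. -/
noncomputable def gaussRed (ψ : AddChar (ZMod p) ℂ) (h : H) : ℂ :=
  ∑ c : U ⧸ rad ρ β h, ψ (qf ρ β h c.out)

variable (hβ : ∀ h u w, β (ρ h u) (ρ h w) = β u w)

theorem cyc_gaussRed {n : ℕ} (hn : p ∣ n) (ψ : AddChar (ZMod p) ℂ) (h : H) :
    Cyc n (gaussRed ρ β ψ h) :=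
  Cyc.sum _ fun _ _ => Cyc.of_root hn (addChar_pow_eq_one ψ _)

theorem isIntegral_gaussRed (ψ : AddChar (ZMod p) ℂ) (h : H) :
    IsIntegral ℤ (gaussRed ρ β ψ h) := IsIntegral.sum _ fun _ _ => isIntegral_addChar ψ _

theorem normSq_gaussRed {ψ : AddChar (ZMod p) ℂ} (hψ : ψ ≠ 1) (h : H)
    (hq : ∀ r ∈ rad ρ β h, qf ρ β h r = 0) (σ : ℂ ≃+* ℂ) :
    ‖σ (gaussRed ρ β ψ h)‖ ^ 2 * Nat.card (rad ρ β h) = Nat.card U := by
  have h1 := normSq_gauss ρ β (twist_ne_one hψ σ) h hq
  have hS : gauss ρ β (σ.toRingHom.toMonoidHom.compAddChar ψ) h =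
      (Nat.card (rad ρ β h) : ℂ) * σ (gaussRed ρ β ψ h) := by
    rw [gauss_factor ρ β _ h hq, gaussRed, map_sum]
    rfl
  rw [hS, norm_mul, mul_pow, Complex.norm_natCast] at h1
  have h0 : (Nat.card (rad ρ β h) : ℝ) ≠ 0 := Nat.cast_ne_zero.2 Nat.card_pos.ne'
  apply mul_left_cancel₀ h0
  linear_combination h1

theorem gaussRed_mem {M : Ideal Cfsg.AlgInt} (hM : Cfsg.IsPModular p M) (ψ : AddChar (ZMod p) ℂ)
    (h : H) (hne : Nat.card (rad ρ β h) ≠ Nat.card U) :
    ∃ a ∈ M, (a : ℂ) = gaussRed ρ β ψ h := by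
  refine sum_roots_mem hM ψ _ ?_
  obtain ⟨r, hr⟩ := exists_card_pow (p := p) (U := U)
  have hc := Submodule.card_eq_card_quotient_mul_card (rad ρ β h)
  rw [← Nat.card_eq_fintype_card]
  obtain ⟨j, -, hj⟩ := (Nat.dvd_prime_pow hp.out).1
    (hr ▸ hc ▸ dvd_mul_of_dvd_right dvd_rfl _ : Nat.card (U ⧸ rad ρ β h) ∣ p ^ r)
  rcases j with _ | j
  · rw [pow_zero] at hj
    rw [hj, mul_one] at hc
    exact absurd hc.symm hne
  · rw [hj]
    exact dvd_pow_self p (Nat.succ_ne_zero j)

include hβ in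
theorem gaussRed_isClassFunction (ψ : AddChar (ZMod p) ℂ)
    (hq : ∀ h, ∀ r ∈ rad ρ β h, qf ρ β h r = 0)
    (hR : ∀ a h, Nat.card (rad ρ β (a * h * a⁻¹)) = Nat.card (rad ρ β h)) :
    Cfsg.IsClassFunction H (gaussRed ρ β ψ) := by
  intro h a
  have h1 := gauss_isClassFunction ρ β hβ ψ h a
  rw [gauss_factor ρ β ψ _ (hq _), gauss_factor ρ β ψ _ (hq _), hR] at h1
  exact mul_left_cancel₀ (Nat.cast_ne_zero.2 Nat.card_pos.ne') h1

theorem fixN_conj (a h : H) : fixN ρ (a * h * a⁻¹) = fixN ρ h := by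
  refine Nat.card_congr
    { toFun := fun u => ⟨ρ a⁻¹ u.1, ?_⟩
      invFun := fun u => ⟨ρ a u.1, ?_⟩
      left_inv := fun u => Subtype.ext (rho_apply_inv ρ a u.1)
      right_inv := fun u => Subtype.ext (rho_inv_apply ρ a u.1) }
  · have := congrArg (ρ a⁻¹) u.2
    simpa [map_mul, Module.End.mul_apply, rho_inv_apply] using this
  · simp [map_mul, Module.End.mul_apply, rho_inv_apply, u.2]

include hβ in
theorem exists_good_symm (hcop : ¬ p ∣ Fintype.card H) {n : ℕ} (hn : p ∣ n)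
    (hsym : ∀ u w, β u w = β w u) (hnd : ∀ u, (∀ w, β u w = 0) → u = 0) :
    ∃ η, Good ρ n η := by
  have hrad : ∀ h, rad ρ β h = fixS ρ h := fun h => by
    ext u
    rw [mem_rad, mem_fixS]
    have hpol : ∀ w, polar ρ β h u w = β (ρ h u + ρ h⁻¹ u - u - u) w := fun w => by
      have h1 : β (ρ h w) u = β (ρ h⁻¹ u) w := by
        conv_lhs => rw [← hβ h⁻¹, rho_inv_apply]
        rw [hsym]
      rw [polar_apply, h1, hsym w u]
      simp [map_sub, map_add]
    constructor
    · intro hu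
      refine eq_fixed_of_sq ρ hcop ?_
      have h0 := hnd _ fun w => (hpol w).symm.trans (hu w)
      have h1 := congrArg (ρ h) h0
      rw [map_sub, map_sub, map_add, rho_apply_inv, map_zero] at h1
      rw [map_sub, ← sub_eq_zero]
      rw [← h1]
      abel
    · intro hu w
      rw [hpol]
      have : ρ h⁻¹ u = u := by
        conv_lhs => rw [← hu]
        exact rho_inv_apply ρ h u
      simp [hu, this]
  have hq : ∀ h, ∀ r ∈ rad ρ β h, qf ρ β h r = 0 := fun h r hr => by
    rw [hrad, mem_fixS] at hr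
    simp [qf, hr]
  have hR : ∀ h, Nat.card (rad ρ β h) = fixN ρ h := fun h => by rw [hrad, card_fixS]
  set ψ : AddChar (ZMod p) ℂ := ZMod.stdAddChar
  refine ⟨gaussRed ρ β ψ, ?_, cyc_gaussRed ρ β hn ψ, Or.inl ?_, fun σ h => ?_, fun M hM h hne => ?_⟩
  · obtain ⟨Q, c, m, hc, hQ, hQe⟩ := exists_inv_fix ρ
    have hcf := gaussRed_isClassFunction ρ β hβ ψ hq fun a h => by rw [hR, hR, fixN_conj]
    refine IntCF.of_coprime hcf (isIntegral_gaussRed ρ β ψ) (D := c.natAbs) ?_ ?_
    · rw [hc, Nat.card_eq_fintype_card]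
      exact Nat.Coprime.pow_left _ (hp.out.coprime_iff_not_dvd.2 hcop)
    · have e : (c : ℂ) • gaussRed ρ β ψ = Q * gauss ρ β ψ := by
        funext h
        rw [Pi.smul_apply, Pi.mul_apply, gauss_factor ρ β ψ h (hq h), hR, ← mul_assoc, hQe,
          smul_eq_mul]
        rfl
      have h1 := IntCF.smul (c := ((c.sign : ℤ) : ℂ)) (isIntegral_intCast _)
        (hQ.intCF.mul (intCF_gauss ρ β hβ ψ))
      rw [← e, smul_smul, ← Int.cast_mul, Int.sign_mul_self_eq_abs, Int.abs_eq_natAbs] at h1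
      exact_mod_cast h1
  · have h1 : rad ρ β 1 = ⊤ := by
      rw [hrad, eq_top_iff]
      intro u _
      rw [mem_fixS, map_one, Module.End.one_apply]
    haveI : Subsingleton (U ⧸ rad ρ β 1) := Submodule.Quotient.subsingleton_iff.2 h1
    rw [gaussRed, Fintype.sum_subsingleton _ (0 : U ⧸ rad ρ β 1), hq 1 _ (h1 ▸ Submodule.mem_top),
      AddChar.map_zero_eq_one]
  · rw [← hR]
    exact normSq_gaussRed ρ β stdAddChar_ne_one h (hq h) σ
  · exact gaussRed_mem ρ β hM ψ h (by rw [hR]; exact hne)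

theorem exists_int_of_involution {G : Type*} [Group G] [Finite G] {χ : G → ℂ}
    (hχ : Cfsg.IsCharacter G χ) {g : G} (hg : g ^ 2 = 1) : ∃ m : ℤ, χ g = m := by
  obtain ⟨d, τ, rfl⟩ := hχ
  obtain ⟨Ms, -, hMs, hpow, -⟩ := exists_eigenvalues τ g
  have h1 := hpow 1
  simp only [pow_one, Multiset.map_id'] at h1
  have hz : ∀ z ∈ Ms, ∃ k : ℤ, z = k := by
    intro z hz
    obtain ⟨c, hc⟩ := orderOf_dvd_of_pow_eq_one hg
    have : z ^ 2 = 1 := by rw [hc, pow_mul, hMs z hz, one_pow]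
    rcases sq_eq_one_iff.1 this with h | h
    · exact ⟨1, by simp [h]⟩
    · exact ⟨-1, by simp [h]⟩
  choose! k hk using hz
  refine ⟨(Ms.map k).sum, ?_⟩
  have hsum := map_multiset_sum (Int.castRingHom ℂ) (Ms.map k)
  rw [Multiset.map_map] at hsum
  rw [h1]
  refine Eq.trans ?_ hsum.symm
  exact congrArg Multiset.sum ((Multiset.map_id' Ms).symm.trans
    (Multiset.map_congr rfl fun z hz => hk z hz))

include hβ in
/-- The alternating case with `-1` in the group, acting faithfully. -/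
theorem exists_good_alt_aux (hp2 : p ≠ 2) (hcop : ¬ p ∣ Fintype.card H) {n : ℕ} (hn : p ∣ n)
    (hn' : Fintype.card H ∣ n) (halt : ∀ u, β u u = 0) (hnd : ∀ u, (∀ w, β u w = 0) → u = 0)
    (hfaith : Function.Injective ρ) {z : H} (hz : ∀ u, ρ z u = -u) :
    ∃ η, Good ρ n η := by
  obtain ⟨χ, hχ, hχn⟩ := exists_weil ρ β hβ hp2 hcop halt hnd
  have hzc : z ∈ Subgroup.center H := Subgroup.mem_center_iff.2 fun g => hfaith (LinearMap.ext
    fun u => by simp [map_mul, Module.End.mul_apply, hz])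
  have h2 : (2 : ZMod p) ≠ 0 := by
    intro h
    have h' : ((2 : ℕ) : ZMod p) = 0 := by exact_mod_cast h
    rw [ZMod.natCast_eq_zero_iff, Nat.prime_dvd_prime_iff_eq hp.out Nat.prime_two] at h'
    exact hp2 h'
  have hskew : ∀ u w, β u w = - β w u := fun u w => by
    have := halt (u + w)
    simp only [map_add, LinearMap.add_apply, halt, zero_add, add_zero] at this
    linear_combination this
  have hrad : ∀ h u, u ∈ rad ρ β h ↔ ρ h (ρ h u) = u := fun h u => by
    have hpol : ∀ w, polar ρ β h u w = β (ρ h u - ρ h⁻¹ u) w := fun w => by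
      have h1 : β (ρ h w) u = - β (ρ h⁻¹ u) w := by
        conv_lhs => rw [← hβ h⁻¹, rho_inv_apply]
        rw [hskew]
      rw [polar_apply, h1, hskew w u]
      simp [map_sub]
      ring
    rw [mem_rad]
    constructor
    · intro hu
      have h1 := congrArg (ρ h) (hnd _ fun w => (hpol w).symm.trans (hu w))
      rw [map_sub, rho_apply_inv, map_zero, sub_eq_zero] at h1
      exact h1
    · intro hu w
      have : ρ h⁻¹ u = ρ h u := by
        conv_lhs => rw [← hu]
        exact rho_inv_apply ρ h _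
      rw [hpol, this, sub_self, map_zero, LinearMap.zero_apply]
  have hq : ∀ h, ∀ r ∈ rad ρ β h, qf ρ β h r = 0 := fun h r hr => by
    have h1 : β (ρ h r) r = - β (ρ h r) r := by
      conv_lhs => rw [← hβ h, (hrad h r).1 hr]
      rw [hskew]
    have h3 : β (ρ h r) r = 0 :=
      (mul_eq_zero.1 (show (2 : ZMod p) * β (ρ h r) r = 0 by linear_combination h1)).resolve_left h2
    simp [qf, h3, halt]
  have hzh : ∀ h u, ρ (z * h) u = -ρ h u := fun h u => by
    rw [map_mul, Module.End.mul_apply, hz]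
  have hR : ∀ h, Nat.card (rad ρ β h) = fixN ρ h * fixN ρ (z * h) := fun h => by
    rw [fixN, fixN, ← Nat.card_prod]
    refine (Nat.card_congr (Equiv.ofBijective (fun x : {u : U // ρ h u = u} × {u : U // ρ (z * h) u = u} =>
      (⟨x.1.1 + x.2.1, ?_⟩ : rad ρ β h)) ⟨?_, ?_⟩)).symm
    · rw [hrad]
      have hh := x.2.2
      rw [hzh, neg_eq_iff_eq_neg] at hh
      simp [x.1.2, hh]
    · rintro ⟨⟨a, ha⟩, ⟨b, hb⟩⟩ ⟨⟨a', ha'⟩, ⟨b', hb'⟩⟩ e
      have e1 : a + b = a' + b' := congrArg Subtype.val e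
      rw [hzh, neg_eq_iff_eq_neg] at hb hb'
      have e2 := congrArg (ρ h) e1
      rw [map_add, map_add, ha, hb, ha', hb'] at e2
      have e3 : (2 : ZMod p) • a = (2 : ZMod p) • a' := by
        rw [two_smul, two_smul]
        calc a + a = (a + b) + (a + -b) := by abel
          _ = (a' + b') + (a' + -b') := by rw [e1, e2]
          _ = a' + a' := by abel
      have ea : a = a' := smul_right_injective U h2 e3
      subst ea
      exact Prod.ext rfl (Subtype.ext (add_left_cancel e1))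
    · rintro ⟨u, hu⟩
      rw [hrad] at hu
      refine ⟨(⟨(2 : ZMod p)⁻¹ • (u + ρ h u), ?_⟩, ⟨(2 : ZMod p)⁻¹ • (u - ρ h u), ?_⟩),
        Subtype.ext ?_⟩
      · rw [map_smul, map_add, hu, add_comm]
      · rw [hzh, map_smul, map_sub, hu, ← smul_neg, neg_sub]
      · show (2 : ZMod p)⁻¹ • (u + ρ h u) + (2 : ZMod p)⁻¹ • (u - ρ h u) = u
        rw [← smul_add, show u + ρ h u + (u - ρ h u) = u + u by abel, ← two_smul (ZMod p) u,
          smul_smul, inv_mul_cancel₀ h2, one_smul]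
  set ψ : AddChar (ZMod p) ℂ := ZMod.stdAddChar
  have hchar := IsCharacter.conj hχ
  have hshift : IntCF fun h => conj (χ (z * h)) := (VChar.of_char hchar).intCF.shift hzc
  have hcentral : ∀ a h, z * (a * h * a⁻¹) = a * (z * h) * a⁻¹ := fun a h => by
    have := Subgroup.mem_center_iff.1 hzc a
    rw [← mul_assoc, ← mul_assoc, ← this, mul_assoc a z h]
  obtain ⟨Q, c, m, hc, hQ, hQe⟩ := exists_inv_fix ρ
  refine ⟨fun h => gaussRed ρ β ψ h * conj (χ (z * h)), ?_, fun h => ?_, ?_, fun σ h => ?_,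
    fun M hM h hne => ?_⟩
  · have hcf := gaussRed_isClassFunction ρ β hβ ψ hq fun a h => by
      rw [hR, hR, fixN_conj, hcentral, fixN_conj]
    refine IntCF.of_coprime (fun h a => ?_)
      (fun h => (isIntegral_gaussRed ρ β ψ h).mul (hshift.isIntegral_apply h))
      (D := (c * c).natAbs) ?_ ?_
    · show gaussRed ρ β ψ (a * h * a⁻¹) * conj (χ (z * (a * h * a⁻¹))) = _
      have hsa := hshift.1 h a
      simp only at hsa
      rw [hcf h a, hsa]
    · rw [Int.natAbs_mul, hc, ← pow_add, Nat.card_eq_fintype_card]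
      exact Nat.Coprime.pow_left _ (hp.out.coprime_iff_not_dvd.2 hcop)
    · have h1 := ((hQ.intCF.mul (hQ.intCF.shift hzc)).mul (intCF_gauss ρ β hβ ψ)).mul hshift
      have e : ((c * c : ℤ) : ℂ) • (fun h => gaussRed ρ β ψ h * conj (χ (z * h))) =
          Q * (fun h => Q (z * h)) * gauss ρ β ψ * fun h => conj (χ (z * h)) := by
        funext h
        simp only [Pi.smul_apply, Pi.mul_apply, smul_eq_mul, gauss_factor ρ β ψ h (hq h), hR,
          gaussRed, Nat.cast_mul, Int.cast_mul]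
        rw [← hQe h]
        conv_lhs => arg 1; arg 2; rw [hQe h, ← hQe (z * h)]
        ring
      rw [← e] at h1
      rwa [show ((c * c : ℤ) : ℂ) = (((c * c).natAbs : ℕ) : ℂ) by
        rw [Int.natAbs_mul, Nat.cast_mul, ← Int.cast_natCast c.natAbs, ← Int.cast_mul,
          Int.natAbs_mul_self']] at h1
  · refine (cyc_gaussRed ρ β hn ψ h).mul (Cyc.of_char hchar ?_ _)
    rw [Nat.card_eq_fintype_card]
    exact hn'
  · have hz2 : (z * 1) ^ 2 = 1 := hfaith (LinearMap.ext fun u => by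
      simp [pow_two, map_mul, Module.End.mul_apply, hz])
    obtain ⟨m', hm'⟩ := exists_int_of_involution hχ hz2
    have hfix : fixN ρ (z * 1) = 1 := by
      haveI : Subsingleton {u : U // ρ (z * 1) u = u} := by
        refine ⟨fun a b => Subtype.ext ?_⟩
        have key : ∀ u : U, ρ (z * 1) u = u → u = 0 := fun u hu => by
          rw [mul_one, hz, eq_comm, ← add_eq_zero_iff_eq_neg, ← two_smul (ZMod p),
            smul_eq_zero] at hu
          exact hu.resolve_left h2
        rw [key _ a.2, key _ b.2]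
      haveI : Nonempty {u : U // ρ (z * 1) u = u} := ⟨⟨0, map_zero _⟩⟩
      exact Nat.card_unique
    have hn1 := hχn (RingEquiv.refl ℂ) (z * 1)
    rw [RingEquiv.refl_apply, hm', hfix, Complex.norm_intCast, sq_abs, Nat.cast_one] at hn1
    have h1 : rad ρ β 1 = ⊤ := eq_top_iff.2 fun u _ => by simp [hrad]
    haveI : Subsingleton (U ⧸ rad ρ β 1) := Submodule.Quotient.subsingleton_iff.2 h1
    show gaussRed ρ β ψ 1 * conj (χ (z * 1)) = 1 ∨ gaussRed ρ β ψ 1 * conj (χ (z * 1)) = -1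
    rw [hm', map_intCast, gaussRed, Fintype.sum_subsingleton _ (0 : U ⧸ rad ρ β 1),
      hq 1 _ (h1 ▸ Submodule.mem_top), AddChar.map_zero_eq_one, one_mul]
    rcases sq_eq_one_iff.1 (by exact_mod_cast hn1 : m' ^ 2 = 1) with h | h
    · exact Or.inl (by simp [h])
    · exact Or.inr (by simp [h])
  · rw [map_mul, norm_mul, mul_pow]
    have e1 : ‖σ (conj (χ (z * h)))‖ ^ 2 = (fixN ρ (z * h) : ℝ) :=
      hχn ((starRingAut : ℂ ≃+* ℂ).trans σ) (z * h)
    rw [e1, mul_assoc, mul_comm (fixN ρ (z * h) : ℝ), ← Nat.cast_mul, ← hR]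
    exact normSq_gaussRed ρ β stdAddChar_ne_one h (hq h) σ
  · by_cases hfull : Nat.card (rad ρ β h) = Nat.card U
    · have h2h : h ^ 2 = 1 := by
        refine hfaith (LinearMap.ext fun u => ?_)
        have hu : u ∈ rad ρ β h := by
          rw [Submodule.eq_top_of_finrank_eq (K := ZMod p) (S := rad ρ β h) ?_]
          · exact Submodule.mem_top
          · rw [Module.natCard_eq_pow_finrank (K := ZMod p),
              Module.natCard_eq_pow_finrank (K := ZMod p) (V := U), Nat.card_zmod] at hfull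
            exact Nat.pow_right_injective hp.out.two_le hfull
        rw [pow_two, map_mul, Module.End.mul_apply, map_one, Module.End.one_apply]
        exact (hrad h u).1 hu
      have hzz : (z * h) ^ 2 = 1 := by
        rw [Commute.mul_pow (show Commute z h from ((Subgroup.mem_center_iff.1 hzc) h).symm), h2h,
          mul_one]
        exact hfaith (LinearMap.ext fun u => by simp [pow_two, map_mul, Module.End.mul_apply, hz])
      obtain ⟨m', hm'⟩ := exists_int_of_involution hχ hzz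
      have hn1 := hχn (RingEquiv.refl ℂ) (z * h)
      rw [RingEquiv.refl_apply, hm', Complex.norm_intCast, sq_abs] at hn1
      have hn2 : m' ^ 2 = (fixN ρ (z * h) : ℤ) := by exact_mod_cast hn1
      obtain ⟨r, hr⟩ := exists_card_pow (p := p) (U := U)
      obtain ⟨j, -, hj⟩ := exists_fix_pow ρ (z * h) hr
      have hj0 : j ≠ 0 := by
        rintro rfl
        rw [hR, hj, pow_zero, mul_one] at hfull
        exact hne hfull
      have hdvd : (p : ℤ) ∣ m' := by
        refine (Nat.prime_iff_prime_int.1 hp.out).dvd_of_dvd_pow (n := 2) ?_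
        rw [hn2, hj, Nat.cast_pow]
        exact dvd_pow_self _ hj0
      refine ⟨⟨gaussRed ρ β ψ h, isIntegral_gaussRed ρ β ψ h⟩ * (m' : Cfsg.AlgInt),
        M.mul_mem_left _ (intCast_mem hM hdvd), ?_⟩
      rw [hm', map_intCast]
      simp
    · obtain ⟨a, ha, hae⟩ := gaussRed_mem ρ β hM ψ h hfull
      refine ⟨a * ⟨conj (χ (z * h)), hshift.isIntegral_apply h⟩, M.mul_mem_right _ ha, ?_⟩
      simp [hae]

/-- Transport along a homomorphism. -/
theorem Good.comp {K : Type*} [Group K] [Fintype K] {ρK : Representation (ZMod p) K U} {n : ℕ}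
    {η : K → ℂ} (hη : Good ρK n η) (f : H →* K) (hf : ∀ h u, ρK (f h) u = ρ h u) :
    Good ρ n fun h => η (f h) := by
  have hfix : ∀ h, fixN ρK (f h) = fixN ρ h := fun h =>
    Nat.card_congr (Equiv.subtypeEquivRight fun u => by rw [hf])
  refine ⟨hη.intCF.comp f, fun h => hη.cyc _, ?_, fun σ h => ?_, fun M hM h hne => ?_⟩
  · simpa using hη.one
  · rw [← hfix]; exact hη.norm σ _
  · exact hη.mem M hM _ (by rwa [hfix])

include hβ in
theorem exists_good_alt (hp2 : p ≠ 2) (hcop : ¬ p ∣ Fintype.card H) {n : ℕ}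
    (hn : 2 * p * Fintype.card H ∣ n) (halt : ∀ u, β u u = 0)
    (hnd : ∀ u, (∀ w, β u w = 0) → u = 0) : ∃ η, Good ρ n η := by
  let E := (Module.End (ZMod p) U)ˣ
  let s : ℤˣ →* E := Units.map (Int.castRingHom (Module.End (ZMod p) U)).toMonoidHom
  have hs : ∀ (e : ℤˣ) (x : E), s e * x = x * s e := fun e x => Units.ext (by
    simp only [s, Units.val_mul, Units.coe_map]
    exact Int.cast_commute _ _)
  let g : H →* E := ρ.asGroupHom
  let f : H × ℤˣ →* E := MonoidHom.mk' (fun x => g x.1 * s x.2) fun a b => by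
    simp only [Prod.fst_mul, Prod.snd_mul, map_mul]
    rw [mul_assoc (g a.1) (g b.1), ← mul_assoc (g b.1), ← hs a.2 (g b.1), mul_assoc, mul_assoc]
  let K := f.range
  haveI : Fintype K := Fintype.ofFinite K
  let ρK : Representation (ZMod p) K U := (Units.coeHom _).comp K.subtype
  have hKdvd : Fintype.card K ∣ 2 * Fintype.card H := by
    have := Subgroup.card_range_dvd f
    rw [Nat.card_prod, Nat.card_eq_fintype_card, Nat.card_eq_fintype_card,
      Nat.card_eq_fintype_card, Fintype.card_units_int, mul_comm] at this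
    exact this
  have hcopK : ¬ p ∣ Fintype.card K := fun h => by
    rcases (hp.out.dvd_mul).1 (h.trans hKdvd) with h | h
    · exact hp2 ((Nat.prime_dvd_prime_iff_eq hp.out Nat.prime_two).1 h)
    · exact hcop h
  have hn1 : p ∣ n := dvd_trans (Dvd.intro_left 2 rfl) ((Dvd.intro _ rfl).trans hn)
  have hn2 : Fintype.card K ∣ n := hKdvd.trans ((Dvd.intro p (by ring)).trans hn)
  have hβK : ∀ (k : K) (u w : U), β (ρK k u) (ρK k w) = β u w := by
    rintro ⟨_, ⟨h, e⟩, rfl⟩ u w
    show β (ρ h (((e : ℤ) : Module.End (ZMod p) U) u)) (ρ h (((e : ℤ) : Module.End (ZMod p) U) w)) = _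
    rw [hβ]
    rcases Int.units_eq_one_or e with rfl | rfl <;> simp
  have hinj : Function.Injective ρK := fun a b e => Subtype.ext (Units.ext e)
  obtain ⟨η, hη⟩ := exists_good_alt_aux ρK β hβK hp2 hcopK hn1 hn2 halt hnd hinj
    (z := ⟨f (1, -1), ⟨(1, -1), rfl⟩⟩) (fun u => by
      show ρ 1 ((((-1 : ℤˣ) : ℤ) : Module.End (ZMod p) U) u) = -u
      simp)
  refine ⟨_, hη.comp ρ (f.rangeRestrict.comp (MonoidHom.inl H ℤˣ)) fun h u => ?_⟩
  show ρ h ((((1 : ℤˣ) : ℤ) : Module.End (ZMod p) U) u) = ρ h u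
  simp

/-- Products over a direct decomposition. -/
theorem Good.mul {U₁ U₂ : Type*} [AddCommGroup U₁] [Module (ZMod p) U₁] [Fintype U₁]
    [AddCommGroup U₂] [Module (ZMod p) U₂] [Fintype U₂] {ρ₁ : Representation (ZMod p) H U₁}
    {ρ₂ : Representation (ZMod p) H U₂} {n : ℕ} {η₁ η₂ : H → ℂ} (h₁ : Good ρ₁ n η₁)
    (h₂ : Good ρ₂ n η₂) (hfix : ∀ h, fixN ρ h = fixN ρ₁ h * fixN ρ₂ h)
    (hcard : Nat.card U = Nat.card U₁ * Nat.card U₂) : Good ρ n (η₁ * η₂) := by
  refine ⟨h₁.intCF.mul h₂.intCF, fun h => (h₁.cyc h).mul (h₂.cyc h), ?_, fun σ h => ?_,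
    fun M hM h hne => ?_⟩
  · rcases h₁.one with a | a <;> rcases h₂.one with b | b <;> simp [a, b]
  · rw [Pi.mul_apply, map_mul, norm_mul, mul_pow, hfix, hcard, Nat.cast_mul, Nat.cast_mul,
      ← h₁.norm σ h, ← h₂.norm σ h]
    ring
  · rw [hfix, hcard] at hne
    by_cases he : fixN ρ₁ h = Nat.card U₁
    · obtain ⟨a, ha, hae⟩ := h₂.mem M hM h (fun e => hne (by rw [he, e]))
      exact ⟨⟨η₁ h, h₁.intCF.isIntegral_apply h⟩ * a, M.mul_mem_left _ ha, by simp [hae]⟩
    · obtain ⟨a, ha, hae⟩ := h₁.mem M hM h he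
      exact ⟨a * ⟨η₂ h, h₂.intCF.isIntegral_apply h⟩, M.mul_mem_right _ ha, by simp [hae]⟩

end Cfsg.Agent.KGV
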